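import Groth.Agent.EtAdic.K668.GTower

/-!
# Coordinates on the Tate module and on the torsion points
-/

set_option autoImplicit false
universe u

open CategoryTheory CategoryTheory.Limits MonoidalCategory CartesianMonoidalCategory MonObj GrpObj
  AlgebraicGeometry Opposite

namespace K668.Coord

open K668.Tower K668.GTower K833.IsogGal K510.TateMod

variable {k : Type u} [Field k] [IsAlgClosed k] {G : Over (Spec (CommRingCat.of k))} [GrpObj G]
  [IsCommMonObj G] {ℓ : ℕ} [Fact ℓ.Prime]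

omit [IsAlgClosed k] in
/-- An additive submonoid of the Tate module containing a basis and `ℓ^n T` is everything. -/
theorem mem_of_basis {κ : Type*} [Fintype κ] (b : Module.Basis κ ℤ_[ℓ] (Tt G ℓ)) (n : ℕ)
    (N : AddSubmonoid (Tt G ℓ)) (hb : ∀ i, b i ∈ N) (hn : ∀ t : Tt G ℓ, (ℓ ^ n) • t ∈ N)
    (t : Tt G ℓ) : t ∈ N := by
  rw [← b.sum_repr t]
  refine sum_mem fun i _ => ?_
  have h1 := PadicInt.appr_spec n (b.repr t i)
  rw [Ideal.mem_span_singleton'] at h1
  obtain ⟨a, ha⟩ := h1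
  have h2 : b.repr t i = ((b.repr t i).appr n : ℤ_[ℓ]) + (ℓ : ℤ_[ℓ]) ^ n * a := by
    rw [mul_comm, ha, add_sub_cancel]
  rw [h2, add_smul, mul_smul, pow_smul, natCast_smul]
  exact add_mem (nsmul_mem (hb i) _) (hn _)

/-- **coordinates of torsion points** -/
theorem exists_coord (hdiv : ∀ x : 𝟙_ (Over (Spec (CommRingCat.of k))) ⟶ G,
      ∃ y : 𝟙_ (Over (Spec (CommRingCat.of k))) ⟶ G, y ^ ℓ = x)
    {κ : Type*} (b : Module.Basis κ ℤ_[ℓ] (Tt G ℓ)) (s : κ) (n : ℕ) :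
    ∃ c : (𝟙_ (Over (Spec (CommRingCat.of k))) ⟶ G) → ZMod (ℓ ^ n),
      ∀ (g : 𝟙_ (Over (Spec (CommRingCat.of k))) ⟶ G), g ^ (ℓ ^ n) = 1 → ∀ (t : Tt G ℓ),
        c (g * cp t n) = c g + PadicInt.toZModPow n (b.repr t s) := by
  classical
  have hex := fun (g : 𝟙_ (Over (Spec (CommRingCat.of k))) ⟶ G) (hg : g ^ (ℓ ^ n) = 1) =>
    exists_component_eq hdiv n g hg
  have key : ∀ t t' : Tt G ℓ, cp t n = cp t' n →
      PadicInt.toZModPow n (b.repr t s) = PadicInt.toZModPow n (b.repr t' s) := by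
    intro t t' h
    have h1 : ((t - t' : Tt G ℓ) : ℕ → Additive (𝟙_ (Over (Spec (CommRingCat.of k))) ⟶ G)) n = 0 := by
      have h2 : ((t - t' : Tt G ℓ) : ℕ → Additive (𝟙_ (Over (Spec (CommRingCat.of k))) ⟶ G)) n =
          (t : ℕ → Additive (𝟙_ (Over (Spec (CommRingCat.of k))) ⟶ G)) n -
            (t' : ℕ → Additive (𝟙_ (Over (Spec (CommRingCat.of k))) ⟶ G)) n := rfl
      rw [h2, sub_eq_zero]
      exact h
    obtain ⟨y, hy⟩ := (val_eq_zero_iff _ n).1 h1
    have h3 : b.repr t s - b.repr t' s = (ℓ : ℤ_[ℓ]) ^ n * b.repr y s := by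
      rw [← Finsupp.sub_apply, ← map_sub, ← hy, map_smul, Finsupp.smul_apply, smul_eq_mul]
    rw [← sub_eq_zero, ← map_sub, h3, ← RingHom.mem_ker, PadicInt.ker_toZModPow,
      Ideal.mem_span_singleton]
    exact ⟨_, rfl⟩
  let c : (𝟙_ (Over (Spec (CommRingCat.of k))) ⟶ G) → ZMod (ℓ ^ n) := fun g =>
    if hg : g ^ (ℓ ^ n) = 1 then PadicInt.toZModPow n (b.repr (hex g hg).choose s) else 0
  have hc : ∀ t : Tt G ℓ, c (cp t n) = PadicInt.toZModPow n (b.repr t s) := by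
    intro t
    have hg : (cp t n) ^ (ℓ ^ n) = 1 := congrArg Additive.toMul (t.torsion n)
    have h1 : c (cp t n) = PadicInt.toZModPow n (b.repr (hex (cp t n) hg).choose s) := dif_pos hg
    rw [h1]
    exact key _ _ (congrArg Additive.toMul (hex (cp t n) hg).choose_spec)
  refine ⟨c, fun g hg t => ?_⟩
  obtain ⟨y, hy⟩ := hex g hg
  have h1 : g = cp y n := (congrArg Additive.toMul hy).symm
  rw [h1, ← cp_add, hc, hc, map_add, Finsupp.add_apply, map_add]

end K668.Coord
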