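import Mathlib.Topology.LocallyConstant.Algebra
import Mathlib.Data.ZMod.Basic
import Mathlib.Algebra.BigOperators.Ring.Finset
import Mathlib.Tactic.Abel
import Mathlib.Tactic.Ring

/-!
# Integration of a locally constant function along a `Z`-action

`T` acts on `Y`, `e ∈ T`, `f : Y → A` invariant under `N e`, `Q A = 0`, `r : Y → ℤ/NQ` with
`r (y + e) = r y + 1`: there is a locally constant `h` with `h (y + e) - h y = f y`, invariant under all `t`
leaving `r` and `f` invariant.
-/

set_option autoImplicit false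

namespace K668.Primitive

open Finset

section sum

variable {A : Type*} [AddCommGroup A]

/-- partial sums of a periodic sequence -/
def P (a : ℕ → A) (j : ℕ) : A := ∑ l ∈ range j, a l

lemma P_add (a : ℕ → A) (i j : ℕ) : P a (i + j) = P a i + P (fun l => a (i + l)) j := by
  rw [P, P, P, sum_range_add]

lemma P_period (a : ℕ → A) (N : ℕ) (h : ∀ l, a (l + N) = a l) (Q : ℕ) : P a (N * Q) = Q • P a N := by
  induction Q with
  | zero => rw [mul_zero, zero_smul]; rfl
  | succ Q ih =>
    have h2 : ∀ i l, a (N * i + l) = a l := by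
      intro i
      induction i with
      | zero => intro l; rw [mul_zero, Nat.zero_add]
      | succ i ih => intro l; rw [show N * (i + 1) + l = (N * i + l) + N by ring, h, ih]
    have h3 : (fun l => a (N * Q + l)) = a := funext fun l => h2 Q l
    rw [show N * (Q + 1) = N * Q + N by ring, P_add, ih, h3, succ_nsmul]

lemma P_add_period (a : ℕ → A) (N Q : ℕ) (h : ∀ l, a (l + N) = a l) (hQ : ∀ x : A, Q • x = 0) (j : ℕ) :
    P a (j + N * Q) = P a j := by
  rw [P_add, P_period _ N (fun l => by rw [← Nat.add_assoc, h]) Q, hQ, add_zero]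

lemma P_congr (a : ℕ → A) (N Q : ℕ) (h : ∀ l, a (l + N) = a l) (hQ : ∀ x : A, Q • x = 0) {i j : ℕ}
    (hij : (i : ZMod (N * Q)) = (j : ZMod (N * Q))) : P a i = P a j := by
  rw [ZMod.natCast_eq_natCast_iff] at hij
  have key : ∀ n i : ℕ, P a (i + n * (N * Q)) = P a i := by
    intro n
    induction n with
    | zero => intro i; rw [zero_mul, add_zero]
    | succ n ih =>
      intro i
      rw [show i + (n + 1) * (N * Q) = (i + n * (N * Q)) + N * Q by ring, P_add_period a N Q h hQ, ih]
  have h1 : ∀ i : ℕ, P a (i % (N * Q)) = P a i := by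
    intro i
    conv_rhs => rw [← Nat.mod_add_div i (N * Q), mul_comm (N * Q)]
    rw [key]
  rw [← h1 i, ← h1 j, hij]

end sum

section main

variable {Y : Type*} [TopologicalSpace Y] {A : Type*} [AddCommGroup A] {T : Type*} [AddCommGroup T]
  (m : T → Y → Y) (hm : ∀ t, Continuous (m t)) (h0 : ∀ y, m 0 y = y)
  (hadd : ∀ a b y, m a (m b y) = m (a + b) y) (e : T) (N Q : ℕ) [NeZero (N * Q)]
  (f : LocallyConstant Y A)
  (hf : ∀ y, f (m (N • e) y) = f y) (hQ : ∀ x : A, Q • x = 0)
  (r : LocallyConstant Y (ZMod (N * Q))) (hr : ∀ y, r (m e y) = r y + 1)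

/-- the sequence of values -/
def seq (y : Y) (l : ℕ) : A := f (m (-((l + 1) • e)) y)

include hadd hf in
omit [NeZero (N * Q)] in
lemma seq_period (y : Y) (l : ℕ) : seq m e f y (l + N) = seq m e f y l := by
  rw [seq, seq]
  have h1 : m (N • e) (m (-((l + N + 1) • e)) y) = m (-((l + 1) • e)) y := by
    rw [hadd]
    congr 1
    rw [show l + N + 1 = N + (l + 1) by ring, add_nsmul]
    abel
  rw [← h1, hf]

/-- the primitive -/
def prim (y : Y) : A := P (seq m e f y) (r y).val

include hm in
lemma isLocallyConstant_prim : IsLocallyConstant (prim m e N Q f r) := by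
  have h1 : prim m e N Q f r = ∑ l ∈ range (N * Q), fun y =>
      if l < (r y).val then f (m (-((l + 1) • e)) y) else 0 := by
    funext y
    rw [Finset.sum_apply, prim, P, ← Finset.sum_filter]
    refine Finset.sum_congr ?_ fun _ _ => rfl
    ext l
    simp only [mem_range, mem_filter]
    exact ⟨fun h => ⟨h.trans (ZMod.val_lt _), h⟩, fun h => h.2⟩
  rw [h1]
  have h2 : ∀ l, IsLocallyConstant (fun y => if l < (r y).val then f (m (-((l + 1) • e)) y) else 0) := by
    intro l
    exact IsLocallyConstant.comp₂ r.isLocallyConstant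
      (f.isLocallyConstant.comp_continuous (hm (-((l + 1) • e))))
      (fun a b => if l < a.val then b else 0)
  have h3 : ∀ n : ℕ, IsLocallyConstant (∑ l ∈ range n, fun y =>
      if l < (r y).val then f (m (-((l + 1) • e)) y) else 0) := by
    intro n
    induction n with
    | zero => rw [range_zero, sum_empty]; exact IsLocallyConstant.const 0
    | succ n ih =>
      rw [sum_range_succ]
      exact ih.add (h2 n)
  exact h3 _

include h0 hadd hf hQ hr in
lemma prim_add (y : Y) : prim m e N Q f r (m e y) = prim m e N Q f r y + f y := by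
  have h1 : (((r (m e y)).val : ℕ) : ZMod (N * Q)) = (((r y).val + 1 : ℕ) : ZMod (N * Q)) := by
    rw [ZMod.natCast_zmod_val, hr, Nat.cast_add, ZMod.natCast_zmod_val, Nat.cast_one]
  rw [prim, P_congr _ N Q (seq_period m hadd e N f hf (m e y)) hQ h1, prim]
  have h2 : ∀ l, seq m e f (m e y) (l + 1) = seq m e f y l := by
    intro l
    rw [seq, seq, hadd]
    congr 2
    rw [show l + 1 + 1 = (l + 1) + 1 from rfl, succ_nsmul]
    abel
  have h3 : seq m e f (m e y) 0 = f y := by
    rw [seq, hadd, Nat.zero_add, one_nsmul, neg_add_cancel, h0]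
  rw [Nat.add_comm, P_add]
  have h4 : P (seq m e f (m e y)) 1 = f y := by rw [P, sum_range_one, h3]
  have h5 : (fun l => seq m e f (m e y) (1 + l)) = seq m e f y :=
    funext fun l => by rw [Nat.add_comm, h2]
  rw [h4, h5, add_comm]

include hadd in
omit [NeZero (N * Q)] in
lemma prim_inv (t : T) (ht : ∀ y, r (m t y) = r y) (hft : ∀ y, f (m t y) = f y) (y : Y) :
    prim m e N Q f r (m t y) = prim m e N Q f r y := by
  rw [prim, prim, ht]
  congr 1
  funext l
  rw [seq, seq, hadd, add_comm, ← hadd, hft]

include hm h0 hadd hf hQ hr in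
/-- **Primitive.** -/
theorem exists_primitive : ∃ h : LocallyConstant Y A, (∀ y, h (m e y) = h y + f y) ∧
    ∀ t : T, (∀ y, r (m t y) = r y) → (∀ y, f (m t y) = f y) → ∀ y, h (m t y) = h y :=
  ⟨⟨prim m e N Q f r, isLocallyConstant_prim m hm e N Q f r⟩,
    prim_add m h0 hadd e N Q f hf hQ r hr,
    fun t ht hft y => prim_inv m hadd e N Q f r t ht hft y⟩

end main

end K668.Primitive
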