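import Groth.Agent.EtAdic.K668.LocCoord
import Groth.Agent.EtAdic.K668.Primitive

/-!
# Surjectivity of the difference operators on joint kernels
-/

set_option autoImplicit false
set_option linter.unusedSectionVars false
set_option backward.isDefEq.respectTransparency.types false
universe u

open CategoryTheory CategoryTheory.Limits MonoidalCategory CartesianMonoidalCategory MonObj GrpObj
  AlgebraicGeometry Opposite

namespace K668.EpiF

open K668.Tower K668.TowerTop K668.GTower K668.LevelU K668.FSheaf K668.LocCoord K833.IsogGal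
  Groth.Agent.EtpbcB Groth.Agent.CurvesA Groth.Agent.Sga4B.ConstLC
open Groth.Agent.EtpbcA.CdDiesEt (Zf)
open Groth.Agent.EtAdic.K668 (SubsetExt.FS)
open Groth.Agent.EtAdic.K668.SubsetExt

variable {k : Type u} [Field k] [IsAlgClosed k] {G : Over (Spec (CommRingCat.of k))} [GrpObj G]
  [IsCommMonObj G] {ℓ : ℕ} (L : LimData ((𝟙 G) ^ ℓ))

/-- elements with trivial `n`-th component act trivially on the `n`-th level -/
theorem m_pU_of_cp (U : G.left.Etale) (t : Tt G ℓ) (n : ℕ) (h : cp t n = 1) :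
    m L U t ≫ pU L U n = pU L U n := by
  apply Big.hom_ext_bc (it ((𝟙 G) ^ ℓ) n).left
  · refine (Category.assoc _ _ _).trans ?_
    refine (congrArg (m L U t ≫ ·) (pU_fst L U n)).trans ?_
    exact (m_fst L U t).trans (pU_fst L U n).symm
  · refine (Category.assoc _ _ _).trans ?_
    refine (congrArg (m L U t ≫ ·) (pU_hom L U n)).trans ?_
    refine (Category.assoc _ _ _).symm.trans ?_
    refine (congrArg (· ≫ (L.pr n).left) (m_hom L U t)).trans ?_
    refine (Category.assoc _ _ _).trans ?_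
    have h1 : tl L t ≫ (L.pr n).left = (L.pr n).left := by
      have h2 : tau L t ≫ L.pr n = L.pr n := by
        rw [tau_pr, h, MonObj.comp_one, _root_.mul_one]
      exact congrArg (fun f => f.left) h2
    refine (congrArg (((EtCoh.bc (pi L)).obj U).hom ≫ ·) h1).trans ?_
    exact (pU_hom L U n).symm

theorem cp_nsmul (t : Tt G ℓ) (n : ℕ) : cp ((ℓ ^ n) • t) n = 1 :=
  congrArg Additive.toMul (t.torsion n)

variable (A : Type (u + 1)) [AddCommGroup A]

theorem m_apply_zero (U : G.left.Etale) (y : YU L U) : m L U 0 y = y := by rw [m_zero]; rfl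

theorem m_apply_add (U : G.left.Etale) (a b : Tt G ℓ) (y : YU L U) :
    m L U a (m L U b y) = m L U (a + b) y := by rw [add_comm a b, m_add]; rfl

theorem m_map_apply {U V : G.left.Etale} (r : V ⟶ U) (t : Tt G ℓ) (y : YU L V) :
    ((EtCoh.bc (pi L)).map r).left (m L V t y) = m L U t (((EtCoh.bc (pi L)).map r).left y) :=
  congrArg (fun f => f y) (m_map L r t)

variable [Fact ℓ.Prime] {κ : Type*} [DecidableEq κ] (b : Module.Basis κ ℤ_[ℓ] (Tt G ℓ))

/-- the difference operators attached to a basis -/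
noncomputable abbrev de (j : κ) : F L A ⟶ F L A := dl L A (b j)

theorem de_comm (i j : κ) : de L A b i ≫ de L A b j = de L A b j ≫ de L A b i := dl_comm L A _ _

theorem val_inv {U : G.left.Etale} {S : Finset κ} (a : (Zf G.left).obj U ⟶ FS (de L A b) S) (j : κ)
    (hj : j ∈ S) (y : YU L U) :
    val L A (a ≫ FSι (de L A b) S) (m L U (b j) y) = val L A (a ≫ FSι (de L A b) S) y := by
  refine (comp_dl_eq_zero_iff L A (a ≫ FSι (de L A b) S) (b j)).1 ?_ y
  rw [Category.assoc, FSι_δ (de L A b) S j hj, comp_zero]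

variable (hg : Good G ℓ) [LocallyOfFiniteType G.hom] [IsAffineHom ((𝟙 G) ^ ℓ).left]

include hg in
theorem epi_dS (ν : ℕ) (hA : ∀ a : A, (ℓ ^ ν) • a = 0) (s : κ) (S : Finset κ) (hs : s ∉ S) :
    Epi (dS (δ := de L A b) (de_comm L A b) s S) := by
  have hsurj : Surjective ((𝟙 G) ^ ℓ).left := by
    have h1 := hg.surj 1
    rw [it_succ, it_zero, Category.comp_id] at h1
    exact h1
  refine EpiLoc.epi_of_local _ fun U hU a₀ x => ?_
  have hUc : CompactSpace U.left := inferInstance
  let f := val L A (a₀ ≫ FSι (de L A b) S)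
  have hfS : ∀ j ∈ S, ∀ y, f (m L U (b j) y) = f y := fun j hj y => val_inv L A b a₀ j hj y
  obtain ⟨n, f', hf'⟩ := exists_level L U f
  have hfn : ∀ t y, f (m L U ((ℓ ^ n) • t) y) = f y := by
    intro t y
    have h1 : ∀ z, f z = f' (pU L U n z) := fun z => (LocallyConstant.congr_fun hf' z).symm
    rw [h1, h1]
    exact congrArg f' (congrArg (fun p => p y) (m_pU_of_cp L U _ n (cp_nsmul t n)))
  obtain ⟨W, g, w, r, hw, hr⟩ := exists_r L hg b s (n + ν) U x
  have key : ∀ D, D = ℓ ^ (n + ν) → ∃ r : LocallyConstant (YU L W) (ZMod D),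
      (∀ y, r (m L W (b s) y) = r y + 1) ∧ ∀ j, j ≠ s → ∀ y, r (m L W (b j) y) = r y := by
    rintro D rfl
    refine ⟨r, fun y => ?_, fun j hj y => ?_⟩
    · rw [hr, Module.Basis.repr_self, Finsupp.single_eq_same, map_one]
    · rw [hr, Module.Basis.repr_self, Finsupp.single_eq_of_ne hj.symm, map_zero, add_zero]
  obtain ⟨r, hr1, hr2⟩ := key (ℓ ^ n * ℓ ^ ν) (pow_add ℓ n ν).symm
  let G' : YU L W ⟶ YU L U := ((EtCoh.bc (pi L)).map g).left
  let fW : LocallyConstant (YU L W) A := LocallyConstant.comap (cmap G') f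
  have hfW : ∀ y, fW y = f (G' y) := fun _ => rfl
  have hne : NeZero (ℓ ^ n * ℓ ^ ν) :=
    ⟨mul_ne_zero (pow_ne_zero _ (Fact.out : ℓ.Prime).ne_zero) (pow_ne_zero _ (Fact.out : ℓ.Prime).ne_zero)⟩
  obtain ⟨h, hh1, hh2⟩ := K668.Primitive.exists_primitive (fun t y => m L W t y)
    (fun t => (m L W t).continuous) (m_apply_zero L W) (m_apply_add L W) (b s) (ℓ ^ n) (ℓ ^ ν) fW
    (fun y => by
      change fW (m L W ((ℓ ^ n) • b s) y) = fW y
      rw [hfW, m_map_apply, hfn, hfW]) hA r hr1
  have hhS : ∀ i ∈ S, sec L A h ≫ de L A b i = 0 := by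
    intro i hi
    rw [comp_dl_eq_zero_iff, val_sec]
    intro y
    refine hh2 (b i) (hr2 i fun e => hs (e ▸ hi)) (fun y => ?_) y
    change fW (m L W (b i) y) = fW y
    rw [hfW, m_map_apply, hfS i hi, hfW]
  refine ⟨W, g, w, lift (de L A b) S (sec L A h) hhS, hw, ?_⟩
  rw [← cancel_mono (FSι (de L A b) S), Category.assoc, dS_ι, ← Category.assoc, lift_ι]
  apply val_injective L A
  apply LocallyConstant.ext
  intro y
  have h1 : val L A (sec L A h ≫ de L A b s) y = h (m L W (b s) y) - h y := by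
    rw [val_dl, val_sec]
  rw [h1, hh1, add_sub_cancel_left, Category.assoc, val_map]

end K668.EpiF
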