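import Groth.Agent.EtAdic.K668.OneSec
import Groth.Agent.Etrest.Site0
import Groth.Agent.Etbase.EtSite

/-!
# A local criterion for epimorphisms of étale sheaves
-/

set_option autoImplicit false
universe u
open CategoryTheory CategoryTheory.Limits AlgebraicGeometry Opposite Abelian

namespace K668.EpiLoc

open K668.OneSec Groth.Agent.CurvesA
open Groth.Agent.EtpbcA.CdDiesEt (Zf)

variable {X : Scheme.{u}}

/-- A morphism of étale sheaves is zero if it is zero on maps from `ℤ[U]`, locally on `U`. -/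
theorem eq_zero_of_local {B Q : EtCoh.Ab X} (q : B ⟶ Q)
    (h : ∀ (U : X.Etale) (_ : IsAffine U.left) (b : (Zf X).obj U ⟶ B) (x : U.left),
      ∃ (W : X.Etale) (g : W ⟶ U) (w : W.left), g.left w = x ∧ (Zf X).map g ≫ b ≫ q = 0) : q = 0 := by
  have key : ∀ (U : X.Etale) (s : EtCoh.sect B U) , q.hom.app (op U) s = 0 := by
    intro U s
    let b : (Zf X).obj U ⟶ B := SiteZU.lift.{u + 1} (F := B) s
    have hb : SiteZU.ev.{u + 1} b = s := SiteZU.ev_lift _
    let S : Sieve U :=
      { arrows := fun W g => (Zf X).map g ≫ b ≫ q = 0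
        downward_closed := by
          intro W V g hg f
          change (Zf X).map (f ≫ g) ≫ b ≫ q = 0
          rw [Functor.map_comp, Category.assoc, hg, comp_zero] }
    refine sect_eq_zero Q (S := S) ?_ _ ?_
    · rw [Groth.Agent.Etbase.EtSite.mem_iff]
      intro x
      obtain ⟨V, f, hV, -, v, hv⟩ := Groth.Agent.Etrest.Site0.exists_affine U x
      obtain ⟨W, g, w, hw, hz⟩ := h V hV ((Zf X).map f ≫ b) v
      refine ⟨W, g ≫ f, w, ?_, ?_⟩
      · change (Zf X).map (g ≫ f) ≫ b ≫ q = 0
        rw [Functor.map_comp, Category.assoc]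
        rw [Category.assoc] at hz
        exact hz
      · rw [← hv, ← hw]
        rfl
    · intro W g hg
      have h3 := congrArg (fun t => SiteZU.ev.{u + 1} t) (show (Zf X).map g ≫ b ≫ q = 0 from hg)
      have h4 : SiteZU.ev.{u + 1} ((Zf X).map g ≫ b ≫ q) = Q.obj.map g.op (q.hom.app (op U) s) := by
        refine (SiteZU.ev_map_comp g (b ≫ q)).trans ?_
        rw [SiteZU.ev_comp, hb]
      refine h4.symm.trans (h3.trans ?_)
      rfl
  apply Sheaf.hom_ext
  apply NatTrans.ext
  funext U
  apply ConcreteCategory.hom_ext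
  intro s
  exact key U.unop s

/-- **local criterion for epimorphisms** -/
theorem epi_of_local {A B : EtCoh.Ab X} (ψ : A ⟶ B)
    (h : ∀ (U : X.Etale) (_ : IsAffine U.left) (b : (Zf X).obj U ⟶ B) (x : U.left),
      ∃ (W : X.Etale) (g : W ⟶ U) (w : W.left) (a : (Zf X).obj W ⟶ A), g.left w = x ∧
        a ≫ ψ = (Zf X).map g ≫ b) : Epi ψ := by
  refine Preadditive.epi_of_cancel_zero _ fun {Q} q hq => ?_
  refine eq_zero_of_local q fun U hU b x => ?_
  obtain ⟨W, g, w, a, hw, ha⟩ := h U hU b x
  refine ⟨W, g, w, hw, ?_⟩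
  rw [← Category.assoc, ← ha, Category.assoc, hq, comp_zero]

end K668.EpiLoc
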