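import Groth.Agent.EtAdic.K668.SubsetInd
import Mathlib.Algebra.Homology.DerivedCategory.Ext.ExactSequences
import Mathlib.CategoryTheory.Abelian.Basic

/-!
# Joint kernels of commuting endomorphisms and their cohomology

`F` an object of an abelian category with pairwise commuting endomorphisms `δ_i` (`i ∈ ι`);
`FS δ S` is the joint kernel of the `δ_i`, `i ∈ S`.  If `δ_s` is epi on `FS δ S` for `s ∉ S`, if
`Ext^{q+1}(P, F) = 0` and all `δ_i` are zero on `Hom(P, F)` then
`# Ext^q(P, FS δ S) = # Hom(P, F) ^ (|S| choose q)`.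
-/

set_option autoImplicit false
universe w v u t

open CategoryTheory CategoryTheory.Limits CategoryTheory.Abelian

namespace Groth.Agent.EtAdic.K668.SubsetExt

attribute [local instance] Abelian.hasFiniteBiproducts

variable {C : Type u} [Category.{v} C] [Abelian C] {ι : Type t} [DecidableEq ι]
  {F : C} (δ : ι → (F ⟶ F))

/-- the joint kernel of the `δ i`, `i ∈ S` -/
noncomputable def FS (S : Finset ι) : C :=
  kernel (biproduct.lift (fun i : S => δ i) : F ⟶ ⨁ fun _ : S => F)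

noncomputable def FSι (S : Finset ι) : FS δ S ⟶ F := kernel.ι _

instance (S : Finset ι) : Mono (FSι δ S) := inferInstanceAs (Mono (kernel.ι _))

omit [DecidableEq ι] in
@[reassoc]
lemma FSι_δ (S : Finset ι) (i : ι) (h : i ∈ S) : FSι δ S ≫ δ i = 0 := by
  have h1 : δ i = (biproduct.lift (fun i : S => δ i) : F ⟶ ⨁ fun _ : S => F) ≫
      biproduct.π (fun _ : S => F) ⟨i, h⟩ := by rw [biproduct.lift_π]
  have h2 : FSι δ S ≫ (biproduct.lift (fun i : S => δ i) : F ⟶ ⨁ fun _ : S => F) = 0 :=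
    kernel.condition _
  rw [h1, ← Category.assoc, h2, zero_comp]

noncomputable def lift (S : Finset ι) {T : C} (f : T ⟶ F) (h : ∀ i ∈ S, f ≫ δ i = 0) :
    T ⟶ FS δ S :=
  kernel.lift _ f (by
    refine biproduct.hom_ext _ _ fun i => ?_
    rw [Category.assoc, biproduct.lift_π, zero_comp]
    exact h i.1 i.2)

omit [DecidableEq ι] in
@[reassoc (attr := simp)]
lemma lift_ι (S : Finset ι) {T : C} (f : T ⟶ F) (h : ∀ i ∈ S, f ≫ δ i = 0) :
    lift δ S f h ≫ FSι δ S = f := kernel.lift_ι _ _ _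

/-- `F_T → F_S` for `S ⊆ T` -/
noncomputable def inc {S T : Finset ι} (h : S ⊆ T) : FS δ T ⟶ FS δ S :=
  lift δ S (FSι δ T) fun i hi => FSι_δ δ T i (h hi)

@[reassoc (attr := simp)]
lemma inc_ι {S T : Finset ι} (h : S ⊆ T) : inc δ h ≫ FSι δ S = FSι δ T := lift_ι _ _ _ _

instance {S T : Finset ι} (h : S ⊆ T) : Mono (inc δ h) := by
  have : Mono (inc δ h ≫ FSι δ S) := by rw [inc_ι]; infer_instance
  exact mono_of_mono _ (FSι δ S)

lemma inc_rfl (S : Finset ι) : inc δ (Finset.Subset.refl S) = 𝟙 _ := by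
  rw [← cancel_mono (FSι δ S), inc_ι, Category.id_comp]

lemma inc_inc {S T U : Finset ι} (h : S ⊆ T) (h' : T ⊆ U) : inc δ h' ≫ inc δ h = inc δ (h.trans h') := by
  rw [← cancel_mono (FSι δ S), Category.assoc, inc_ι, inc_ι, inc_ι]

variable {δ} (hc : ∀ i j, δ i ≫ δ j = δ j ≫ δ i)

include hc in
lemma FSι_δ_δ (S : Finset ι) (j i : ι) (h : i ∈ S) : (FSι δ S ≫ δ j) ≫ δ i = 0 := by
  rw [Category.assoc, hc j i, FSι_δ_assoc δ S i h, zero_comp]

/-- the operator `δ_j` on `F_S` -/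
noncomputable def dS (j : ι) (S : Finset ι) : FS δ S ⟶ FS δ S :=
  lift δ S (FSι δ S ≫ δ j) fun i hi => FSι_δ_δ hc S j i hi

@[reassoc (attr := simp)]
lemma dS_ι (j : ι) (S : Finset ι) : dS hc j S ≫ FSι δ S = FSι δ S ≫ δ j := lift_ι _ _ _ _

lemma inc_dS (j : ι) {S T : Finset ι} (h : S ⊆ T) : inc δ h ≫ dS hc j S = dS hc j T ≫ inc δ h := by
  rw [← cancel_mono (FSι δ S), Category.assoc, dS_ι, inc_ι_assoc, Category.assoc, inc_ι, dS_ι]

lemma dS_comm (i j : ι) (S : Finset ι) : dS hc i S ≫ dS hc j S = dS hc j S ≫ dS hc i S := by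
  rw [← cancel_mono (FSι δ S), Category.assoc, dS_ι, dS_ι_assoc, Category.assoc, dS_ι, dS_ι_assoc,
    hc]

lemma w (s : ι) (S : Finset ι) : inc δ (Finset.subset_insert s S) ≫ dS hc s S = 0 := by
  rw [← cancel_mono (FSι δ S), Category.assoc, dS_ι, inc_ι_assoc,
    FSι_δ δ _ s (Finset.mem_insert_self s S), zero_comp]

/-- `F_{S ∪ s} → F_S → F_S` -/
noncomputable abbrev sc (s : ι) (S : Finset ι) : ShortComplex C :=
  ShortComplex.mk (inc δ (Finset.subset_insert s S)) (dS hc s S) (w hc s S)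

lemma shortExact (s : ι) (S : Finset ι) (he : Epi (dS hc s S)) : (sc hc s S).ShortExact := by
  refine ShortComplex.ShortExact.mk' ?_ inferInstance he
  refine ShortComplex.exact_of_f_is_kernel _ ?_
  refine KernelFork.IsLimit.ofι' _ _ fun {T} k hk => ⟨lift δ _ (k ≫ FSι δ S) fun i hi => ?_, ?_⟩
  · rcases Finset.mem_insert.1 hi with rfl | hi
    · rw [Category.assoc, ← dS_ι hc, ← Category.assoc]
      have hk' : k ≫ dS hc i S = 0 := hk
      rw [hk', zero_comp]
    · rw [Category.assoc, FSι_δ δ S i hi, comp_zero]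
  · rw [← cancel_mono (FSι δ S), Category.assoc, inc_ι, lift_ι]

/-- the morphism of short complexes attached to `S ⊆ T` -/
noncomputable def scInc (s : ι) {S T : Finset ι} (h : S ⊆ T) : sc hc s T ⟶ sc hc s S where
  τ₁ := inc δ (Finset.insert_subset_insert s h)
  τ₂ := inc δ h
  τ₃ := inc δ h
  comm₁₂ := by
    exact (inc_inc δ (Finset.subset_insert s S) (Finset.insert_subset_insert s h)).trans
      (inc_inc δ h (Finset.subset_insert s T)).symm
  comm₂₃ := inc_dS hc s h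

/-- the endomorphism `δ_j` of the short complexes -/
noncomputable def scD (j s : ι) (S : Finset ι) : sc hc s S ⟶ sc hc s S where
  τ₁ := dS hc j _
  τ₂ := dS hc j _
  τ₃ := dS hc j _
  comm₁₂ := (inc_dS hc j (Finset.subset_insert s S)).symm
  comm₂₃ := dS_comm hc j s S

omit [DecidableEq ι] in
lemma isIso_inc_empty : IsIso (FSι δ (∅ : Finset ι)) := by
  refine ⟨lift δ ∅ (𝟙 F) (fun i hi => absurd hi (Finset.notMem_empty i)), ?_, lift_ι _ _ _ _⟩
  rw [← cancel_mono (FSι δ ∅), Category.assoc, lift_ι, Category.comp_id, Category.id_comp]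

section ext

variable [HasExt.{w} C] (P : C)

/-- naturality of the connecting maps -/
lemma postcomp_extClass {S₁ S₂ : ShortComplex C} (h₁ : S₁.ShortExact) (h₂ : S₂.ShortExact)
    (f : S₁ ⟶ S₂) (q : ℕ) (x : Ext.{w} P S₁.X₃ q) :
    (x.comp h₁.extClass (rfl : q + 1 = q + 1)).comp (Ext.mk₀ f.τ₁) (add_zero _) =
      (x.comp (Ext.mk₀ f.τ₃) (add_zero _)).comp h₂.extClass rfl := by
  rw [Ext.comp_assoc_of_third_deg_zero, ShortComplex.ShortExact.extClass_naturality h₁ h₂ f,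
    Ext.comp_assoc_of_second_deg_zero]

lemma comp_extClass_f {S₁ : ShortComplex C} (h₁ : S₁.ShortExact) (q : ℕ) (x : Ext.{w} P S₁.X₃ q) :
    (x.comp h₁.extClass (rfl : q + 1 = q + 1)).comp (Ext.mk₀ S₁.f) (add_zero _) = 0 := by
  rw [Ext.comp_assoc_of_third_deg_zero, ShortComplex.ShortExact.extClass_comp, Ext.comp_zero]

lemma post_eq_zero_of_mono {X Y : C} (f : X ⟶ Y) [Mono f] (x : Ext.{w} P X 0)
    (h : x.comp (Ext.mk₀ f) (add_zero 0) = 0) : x = 0 := by
  obtain ⟨a, rfl⟩ := (Ext.mk₀_bijective _ _).2 x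
  rw [Ext.mk₀_comp_mk₀] at h
  have h' : a ≫ f = 0 := (Ext.mk₀_bijective _ _).1 (h.trans (Ext.mk₀_zero _ _).symm)
  rw [zero_of_comp_mono f h', Ext.mk₀_zero]

variable (he : ∀ s S, s ∉ S → Epi (dS hc s S))
  (hacyc : ∀ q, Subsingleton (Ext.{w} P F (q + 1)))
  (htriv : ∀ (j : ι) (f : P ⟶ F), f ≫ δ j = 0)

/-- the long exact sequences as `SubsetInd.Data` -/
noncomputable def data : SubsetInd.Data.{t, w} ι where
  H q S := Ext.{w} P (FS δ S) q
  grp _ _ := inferInstance
  res h q := (Ext.mk₀ (inc δ h)).postcomp P (add_zero q)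
  res_rfl S q x := by
    change x.comp (Ext.mk₀ (inc δ _)) (add_zero q) = x
    rw [inc_rfl, Ext.comp_mk₀_id]
  res_res h h' q x := by
    change (x.comp (Ext.mk₀ (inc δ h')) (add_zero q)).comp (Ext.mk₀ (inc δ h)) (add_zero q) =
      x.comp (Ext.mk₀ (inc δ _)) (add_zero q)
    rw [Ext.comp_assoc_of_third_deg_zero, Ext.mk₀_comp_mk₀, inc_inc]
  D j q S := (Ext.mk₀ (dS hc j S)).postcomp P (add_zero q)
  res_D j S T h q x := by
    change (x.comp (Ext.mk₀ (dS hc j T)) (add_zero q)).comp (Ext.mk₀ (inc δ h)) (add_zero q) =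
      (x.comp (Ext.mk₀ (inc δ h)) (add_zero q)).comp (Ext.mk₀ (dS hc j S)) (add_zero q)
    rw [Ext.comp_assoc_of_third_deg_zero, Ext.mk₀_comp_mk₀, Ext.comp_assoc_of_third_deg_zero,
      Ext.mk₀_comp_mk₀, inc_dS]
  bd s S h q := ((shortExact hc s S (he s S h)).extClass).postcomp P rfl
  bd_D j s S h q x := by
    exact postcomp_extClass P (shortExact hc s S (he s S h)) (shortExact hc s S (he s S h))
      (scD hc j s S) q x
  res_bd s S T hT hST q x := by
    exact postcomp_extClass P (shortExact hc s T (he s T hT))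
      (shortExact hc s S (he s S fun h => hT (hST h))) (scInc hc s hST) q x
  exact₁ s S h q x hx := by
    obtain ⟨y, hy⟩ := Ext.covariant_sequence_exact₃ P (shortExact hc s S (he s S h)) x rfl hx
    exact ⟨y, hy⟩
  exact₂ s S h q x hx := by
    obtain ⟨y, hy⟩ := Ext.covariant_sequence_exact₁ P (shortExact hc s S (he s S h)) x hx rfl
    exact ⟨y, hy⟩
  exact₂' s S h q x := by
    exact comp_extClass_f P (shortExact hc s S (he s S h)) q x
  exact₃ s S h q x hx := by
    obtain ⟨y, hy⟩ := Ext.covariant_sequence_exact₂ P (shortExact hc s S (he s S h)) x hx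
    exact ⟨y, hy⟩
  inj h x hx := post_eq_zero_of_mono P (inc δ h) x hx
  acyc q x := by
    have := isIso_inc_empty (δ := δ)
    have h1 : x.comp (Ext.mk₀ (FSι δ ∅)) (add_zero _) = 0 := (hacyc q).elim _ _
    have h2 : (x.comp (Ext.mk₀ (FSι δ ∅)) (add_zero _)).comp (Ext.mk₀ (inv (FSι δ ∅))) (add_zero _) =
        x := by
      rw [Ext.comp_assoc_of_third_deg_zero, Ext.mk₀_comp_mk₀, IsIso.hom_inv_id, Ext.comp_mk₀_id]
    rw [← h2, h1, Ext.zero_comp]
  triv j x := by
    refine post_eq_zero_of_mono P (FSι δ ∅) _ ?_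
    obtain ⟨a, rfl⟩ := (Ext.mk₀_bijective _ _).2 x
    change ((Ext.mk₀ a).comp (Ext.mk₀ (dS hc j ∅)) (add_zero 0)).comp _ _ = 0
    rw [Ext.mk₀_comp_mk₀, Ext.mk₀_comp_mk₀, Category.assoc, dS_ι, ← Category.assoc,
      htriv j, Ext.mk₀_zero]

include he hacyc htriv in
/-- **Main count.** -/
theorem card_ext (S : Finset ι) (q : ℕ) :
    Nat.card (Ext.{w} P (FS δ S) q) = (Nat.card (P ⟶ F)) ^ (S.card.choose q) := by
  have h := (data hc P he hacyc htriv).card_eq S.card S rfl q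
  refine h.trans ?_
  congr 1
  change Nat.card (Ext.{w} P (FS δ ∅) 0) = _
  refine (Nat.card_congr (Ext.homEquiv₀ (X := P) (Y := FS δ ∅))).trans ?_
  have := isIso_inc_empty (δ := δ)
  exact Nat.card_congr (Iso.homCongr (Iso.refl P) (asIso (FSι δ ∅)))

end ext

end Groth.Agent.EtAdic.K668.SubsetExt
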