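import Groth.Agent.EtAdic.K668.LevelU
import Groth.Agent.EtAdic.K668.SubsetExt
import Groth.Agent.EtAdic.K668.EpiLoc

/-!
# The direct image of the constant sheaf on the limit of the tower with the action of the Tate module
-/

set_option autoImplicit false
set_option linter.unusedSectionVars false
set_option backward.isDefEq.respectTransparency.types false
universe u

open CategoryTheory CategoryTheory.Limits MonoidalCategory CartesianMonoidalCategory MonObj GrpObj
  AlgebraicGeometry Opposite

namespace K668.FSheaf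

open K668.Tower K668.GTower K668.LevelU K833.IsogGal Groth.Agent.EtpbcB Groth.Agent.CurvesA
open Groth.Agent.Sga7.H744.RhoLC Groth.Agent.Sga7.H744.Trace Groth.Agent.Sga4B.ConstLC
open Groth.Agent.EtpbcA.CdDiesEt (Zf)

variable {k : Type u} [Field k] [IsAlgClosed k] {G : Over (Spec (CommRingCat.of k))} [GrpObj G]
  [IsCommMonObj G] {ℓ : ℕ} (L : LimData ((𝟙 G) ^ ℓ))

/-- the projection to `G` on schemes -/
noncomputable abbrev pi : L.pt.left ⟶ G.left := (L.pr 0).left

/-- translations on schemes -/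
noncomputable abbrev tl (t : Tt G ℓ) : L.pt.left ⟶ L.pt.left := (tau L t).left

theorem tl_pi (t : Tt G ℓ) : tl L t ≫ pi L = pi L := congrArg (fun f => f.left) (tau_pr_zero L t)

/-- the action on `YU` -/
noncomputable def m (U : G.left.Etale) (t : Tt G ℓ) : YU L U ⟶ YU L U :=
  tU (tl L t) (pi L) (tl_pi L t) U

theorem m_fst (U : G.left.Etale) (t : Tt G ℓ) :
    m L U t ≫ Big.bcFst (pi L) U = Big.bcFst (pi L) U := tU_fst _ _ _ _

theorem m_hom (U : G.left.Etale) (t : Tt G ℓ) :
    m L U t ≫ ((EtCoh.bc (pi L)).obj U).hom = ((EtCoh.bc (pi L)).obj U).hom ≫ tl L t :=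
  tU_hom _ _ _ _

theorem m_zero (U : G.left.Etale) : m L U 0 = 𝟙 _ := by
  apply Big.hom_ext_bc (pi L)
  · rw [m_fst, Category.id_comp]
  · refine (m_hom L U 0).trans ?_
    have h : tl L 0 = 𝟙 _ := by rw [tl, tau_zero]; rfl
    refine (congrArg (((EtCoh.bc (pi L)).obj U).hom ≫ ·) h).trans ?_
    exact (Category.comp_id _).trans (Category.id_comp _).symm

theorem m_add (U : G.left.Etale) (a b : Tt G ℓ) : m L U (a + b) = m L U a ≫ m L U b := by
  have h : tl L (a + b) = tl L a ≫ tl L b := by rw [tl, tau_add]; rfl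
  rw [m, m, m, ← tU_comp (pi L) (tl L a) (tl L b) (tl_pi L a) (tl_pi L b)
    (by rw [Category.assoc, tl_pi, tl_pi])]
  exact tU_congr (pi L) h _ _ U

theorem rt_it (t : Tt G ℓ) (n : ℕ) :
    (rt (cp t n)).left ≫ (it ((𝟙 G) ^ ℓ) n).left = (it ((𝟙 G) ^ ℓ) n).left := by
  have := isMonHom_it (G := G) (ℓ := ℓ) n
  exact congrArg (fun f => f.left) (rt_comp (it ((𝟙 G) ^ ℓ) n) (cpk t n))

theorem m_pU (U : G.left.Etale) (t : Tt G ℓ) (n : ℕ) :
    m L U t ≫ pU L U n =
      pU L U n ≫ tU (rt (cp t n)).left (it ((𝟙 G) ^ ℓ) n).left (rt_it t n) U := by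
  apply Big.hom_ext_bc (it ((𝟙 G) ^ ℓ) n).left
  · refine (Category.assoc _ _ _).trans ?_
    refine (congrArg (m L U t ≫ ·) (pU_fst L U n)).trans ?_
    refine (m_fst L U t).trans ?_
    refine Eq.trans ?_ (Category.assoc _ _ _).symm
    refine Eq.trans ?_ (congrArg (pU L U n ≫ ·) (tU_fst _ _ _ _)).symm
    exact (pU_fst L U n).symm
  · refine (Category.assoc _ _ _).trans ?_
    refine (congrArg (m L U t ≫ ·) (pU_hom L U n)).trans ?_
    refine (Category.assoc _ _ _).symm.trans ?_
    refine (congrArg (· ≫ (L.pr n).left) (m_hom L U t)).trans ?_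
    refine (Category.assoc _ _ _).trans ?_
    have h1 : tl L t ≫ (L.pr n).left = (L.pr n).left ≫ (rt (cp t n)).left :=
      congrArg (fun f => f.left) (tau_pr_rt L t n)
    refine (congrArg (((EtCoh.bc (pi L)).obj U).hom ≫ ·) h1).trans ?_
    refine (Category.assoc _ _ _).symm.trans ?_
    refine (congrArg (· ≫ (rt (cp t n)).left) (pU_hom L U n)).symm.trans ?_
    refine (Category.assoc _ _ _).trans ?_
    refine Eq.trans ?_ (Category.assoc _ _ _).symm
    exact (congrArg (pU L U n ≫ ·) (tU_hom _ _ _ _)).symm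

theorem m_map {U V : G.left.Etale} (r : V ⟶ U) (t : Tt G ℓ) :
    m L V t ≫ ((EtCoh.bc (pi L)).map r).left = ((EtCoh.bc (pi L)).map r).left ≫ m L U t := by
  apply Big.hom_ext_bc (pi L)
  · refine (Category.assoc _ _ _).trans ?_
    refine (congrArg (m L V t ≫ ·) (Big.bc_map_fst (pi L) r)).trans ?_
    refine (Category.assoc _ _ _).symm.trans ?_
    refine (congrArg (· ≫ r.left) (m_fst L V t)).trans ?_
    refine Eq.trans ?_ (Category.assoc _ _ _).symm
    refine Eq.trans ?_ (congrArg (((EtCoh.bc (pi L)).map r).left ≫ ·) (m_fst L U t)).symm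
    exact (Big.bc_map_fst (pi L) r).symm
  · refine (Category.assoc _ _ _).trans ?_
    refine (congrArg (m L V t ≫ ·) (Big.bc_map_hom (pi L) r)).trans ?_
    refine (m_hom L V t).trans ?_
    refine Eq.trans ?_ (Category.assoc _ _ _).symm
    refine Eq.trans ?_ (congrArg (((EtCoh.bc (pi L)).map r).left ≫ ·) (m_hom L U t)).symm
    refine Eq.trans ?_ (Category.assoc _ _ _)
    exact (congrArg (· ≫ tl L t) (Big.bc_map_hom (pi L) r)).symm

section sheaf

variable (A : Type (u + 1)) [AddCommGroup A]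

/-- the direct image of the constant sheaf -/
noncomputable abbrev F : EtCoh.Ab G.left := (EtCoh.push (pi L)).obj (LC L.pt.left A)

/-- the translations on the direct image -/
noncomputable def T (t : Tt G ℓ) : F L A ⟶ F L A := tauG (tl L t) (pi L) (tl_pi L t) A

/-- sections as morphisms -/
noncomputable def sec {U : G.left.Etale} (s : LocallyConstant (YU L U) A) :
    (Zf G.left).obj U ⟶ F L A := SiteZU.lift.{u + 1} (F := F L A) s

/-- morphisms as sections -/
noncomputable def val {U : G.left.Etale} :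
    ((Zf G.left).obj U ⟶ F L A) →+ LocallyConstant (YU L U) A := SiteZU.ev.{u + 1} (F := F L A)

theorem val_sec {U : G.left.Etale} (s : LocallyConstant (YU L U) A) : val L A (sec L A s) = s :=
  SiteZU.ev_lift _

theorem val_injective {U : G.left.Etale} : Function.Injective (val L A (U := U)) :=
  SiteZU.ev_injective

theorem val_map {U V : G.left.Etale} (g : V ⟶ U) (a : (Zf G.left).obj U ⟶ F L A) :
    val L A ((Zf G.left).map g ≫ a) =
      LocallyConstant.comap (cmap ((EtCoh.bc (pi L)).map g).left) (val L A a) :=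
  SiteZU.ev_map_comp g a

theorem val_T {U : G.left.Etale} (a : (Zf G.left).obj U ⟶ F L A) (t : Tt G ℓ) (y : YU L U) :
    val L A (a ≫ T L A t) y = val L A a (m L U t y) := by
  have h1 : val L A (a ≫ T L A t) = LocallyConstant.comap (cmap (m L U t)) (val L A a) := by
    refine (SiteZU.ev_comp (F := F L A) a (T L A t)).trans ?_
    exact tauG_app (tl L t) (pi L) (tl_pi L t) A U (val L A a)
  rw [h1]
  rfl

theorem hom_ext {φ ψ : F L A ⟶ F L A}
    (h : ∀ (U : G.left.Etale) (a : (Zf G.left).obj U ⟶ F L A) (y : YU L U),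
      val L A (a ≫ φ) y = val L A (a ≫ ψ) y) : φ = ψ := by
  rw [← sub_eq_zero]
  refine EpiLoc.eq_zero_of_local _ fun U _ b x => ⟨U, 𝟙 U, x, rfl, ?_⟩
  have h1 : b ≫ (φ - ψ) = 0 := by
    rw [Preadditive.comp_sub, sub_eq_zero]
    exact val_injective L A (LocallyConstant.ext fun y => h U b y)
  rw [h1, comp_zero]

theorem T_comp (a b : Tt G ℓ) : T L A a ≫ T L A b = T L A (b + a) := by
  refine hom_ext L A fun U x y => ?_
  rw [← Category.assoc, val_T, val_T, val_T, m_add]
  rfl

/-- the difference operators -/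
noncomputable def dl (t : Tt G ℓ) : F L A ⟶ F L A := T L A t - 𝟙 _

theorem dl_comm (a b : Tt G ℓ) : dl L A a ≫ dl L A b = dl L A b ≫ dl L A a := by
  have h : T L A a ≫ T L A b = T L A b ≫ T L A a := by rw [T_comp, T_comp, add_comm]
  simp only [dl, Preadditive.sub_comp, Preadditive.comp_sub, Category.id_comp, Category.comp_id]
  rw [h]
  abel

theorem val_dl {U : G.left.Etale} (a : (Zf G.left).obj U ⟶ F L A) (t : Tt G ℓ) (y : YU L U) :
    val L A (a ≫ dl L A t) y = val L A a (m L U t y) - val L A a y := by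
  have h1 : val L A (a ≫ dl L A t) = val L A (a ≫ T L A t) - val L A a := by
    rw [dl, Preadditive.comp_sub, Category.comp_id, map_sub]
  rw [h1, ← val_T]
  rfl

theorem comp_dl_eq_zero_iff {U : G.left.Etale} (a : (Zf G.left).obj U ⟶ F L A) (t : Tt G ℓ) :
    a ≫ dl L A t = 0 ↔ ∀ y, val L A a (m L U t y) = val L A a y := by
  rw [← (val_injective L A).eq_iff, map_zero]
  constructor
  · intro h y
    have := LocallyConstant.congr_fun h y
    rw [val_dl] at this
    exact sub_eq_zero.1 this
  · intro h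
    apply LocallyConstant.ext
    intro y
    rw [val_dl, h y, sub_self]
    rfl

end sheaf

end K668.FSheaf
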