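import Groth.Agent.EtAdic.K668.TowerTop
import Groth.Agent.EtAdic.K833.IsogGal
import Groth.Agent.AbVar.K510.TateMod

/-!
# The Tate module acts on the limit of the tower of multiplications by `ℓ`
-/

set_option autoImplicit false
universe u

open CategoryTheory CategoryTheory.Limits MonoidalCategory CartesianMonoidalCategory MonObj GrpObj
  AlgebraicGeometry Opposite

namespace K668.GTower

open K668.Tower K833.IsogGal

variable {k : Type u} [Field k] [IsAlgClosed k] {G : Over (Spec (CommRingCat.of k))} [GrpObj G]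
  [IsCommMonObj G] {ℓ : ℕ}

theorem it_eq (n : ℕ) : it ((𝟙 G) ^ ℓ) n = (𝟙 G) ^ (ℓ ^ n) := by
  induction n with
  | zero => rw [it_zero, pow_zero, pow_one]
  | succ n ih => rw [it_succ, ih, MonObj.comp_pow, Category.comp_id, ← pow_mul, pow_succ']

/-- The Tate module of `k`-points -/
abbrev Tt (G : Over (Spec (CommRingCat.of k))) [GrpObj G] [IsCommMonObj G] (ℓ : ℕ) :=
  AbDual.TateMod G ℓ (𝟙_ (Over (Spec (CommRingCat.of k))))

/-- the components -/
def cp (t : Tt G ℓ) (n : ℕ) : 𝟙_ (Over (Spec (CommRingCat.of k))) ⟶ G :=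
  ((t : ℕ → Additive (𝟙_ (Over (Spec (CommRingCat.of k))) ⟶ G)) n).toMul

theorem cp_pow (t : Tt G ℓ) (n : ℕ) : (cp t (n + 1)) ^ ℓ = cp t n :=
  congrArg Additive.toMul (t.compat n)

theorem cp_zero (t : Tt G ℓ) : cp t 0 = 1 := congrArg Additive.toMul (K510.TateMod.component_zero t)

theorem cp_add (a b : Tt G ℓ) (n : ℕ) : cp (a + b) n = cp a n * cp b n := rfl

theorem zero_cp (n : ℕ) : cp (0 : Tt G ℓ) n = 1 := rfl

variable (L : LimData ((𝟙 G) ^ ℓ))

/-- translation by an element of the Tate module -/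
noncomputable def tau (t : Tt G ℓ) : L.pt ⟶ L.pt :=
  L.lift (fun n => L.pr n * (toUnit L.pt ≫ cp t n)) fun n => by
    have h1 := L.w n
    rw [MonObj.comp_pow, Category.comp_id] at h1
    rw [MonObj.comp_pow, Category.comp_id, mul_pow, h1, ← MonObj.comp_pow, cp_pow]

theorem tau_pr (t : Tt G ℓ) (n : ℕ) : tau L t ≫ L.pr n = L.pr n * (toUnit L.pt ≫ cp t n) :=
  L.fac _ _ n

theorem tau_pr_rt (t : Tt G ℓ) (n : ℕ) : tau L t ≫ L.pr n = L.pr n ≫ rt (cp t n) := by
  rw [tau_pr, comp_rt]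

theorem tau_pr_zero (t : Tt G ℓ) : tau L t ≫ L.pr 0 = L.pr 0 := by
  rw [tau_pr, cp_zero, MonObj.comp_one, _root_.mul_one]

theorem tau_zero : tau L 0 = 𝟙 L.pt := by
  refine L.hom_ext _ _ fun n => ?_
  rw [tau_pr, zero_cp, MonObj.comp_one, _root_.mul_one, Category.id_comp]

theorem tau_add (a b : Tt G ℓ) : tau L (a + b) = tau L a ≫ tau L b := by
  refine L.hom_ext _ _ fun n => ?_
  rw [Category.assoc, tau_pr, tau_pr L b, MonObj.comp_mul, tau_pr, ← Category.assoc, comp_toUnit,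
    cp_add, MonObj.comp_mul, _root_.mul_assoc]

theorem tau_comm (a b : Tt G ℓ) : tau L a ≫ tau L b = tau L b ≫ tau L a := by
  rw [← tau_add, add_comm, tau_add]

theorem isMonHom_it (n : ℕ) : IsMonHom (it ((𝟙 G) ^ ℓ) n) := by
  have h : ∀ N : ℕ, IsMonHom ((𝟙 G : G ⟶ G) ^ N) := by
    intro N
    refine ⟨?_, ?_⟩
    · rw [MonObj.comp_pow, Category.comp_id]
      have h : (η[G] : 𝟙_ (Over (Spec (CommRingCat.of k))) ⟶ G) = 1 := one_eq_one G
      rw [h, one_pow]
    · have h1 : μ[G] = (fst G G) * (snd G G) := by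
        rw [Hom.mul_def, lift_fst_snd, Category.id_comp]
      rw [MonObj.comp_pow, Category.comp_id, h1, mul_pow]
      rw [Hom.mul_def]
      congr 1
      ext1
      · rw [lift_fst, tensorHom_fst, MonObj.comp_pow, Category.comp_id]
      · rw [lift_snd, tensorHom_snd, MonObj.comp_pow, Category.comp_id]
  rw [it_eq]
  exact h _

theorem cp_it (t : Tt G ℓ) (n : ℕ) : cp t n ≫ it ((𝟙 G) ^ ℓ) n = 1 := by
  rw [it_eq, MonObj.comp_pow, Category.comp_id]
  have h := t.torsion n
  exact congrArg Additive.toMul h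

/-- the component in the group of rational points of the kernel -/
def cpk (t : Tt G ℓ) (n : ℕ) : haveI := isMonHom_it (G := G) (ℓ := ℓ) n
    kerPts (it ((𝟙 G) ^ ℓ) n) := ⟨cp t n, cp_it t n⟩

end K668.GTower
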