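import Groth.Agent.EtAdic.K668.EpiF

/-!
# The constant sheaf is the sheaf of invariants of the Tate module
-/

set_option autoImplicit false
set_option linter.unusedSectionVars false
set_option backward.isDefEq.respectTransparency.types false
universe u

open CategoryTheory CategoryTheory.Limits MonoidalCategory CartesianMonoidalCategory MonObj GrpObj
  AlgebraicGeometry Opposite

namespace K668.Kappa

open K668.Tower K668.TowerTop K668.GTower K668.LevelU K668.FSheaf K668.LocCoord K833.IsogGal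
  K668.EpiF Groth.Agent.EtpbcB Groth.Agent.CurvesA Groth.Agent.Sga4B.ConstLC
open Groth.Agent.Sga7.H744.RhoLC Groth.Agent.Sga7.H744.Trace
open Groth.Agent.EtpbcA.CdDiesEt (Zf)
open Groth.Agent.EtAdic.K668.SubsetExt

variable {k : Type u} [Field k] [IsAlgClosed k] {G : Over (Spec (CommRingCat.of k))} [GrpObj G]
  [IsCommMonObj G] {ℓ : ℕ} (L : LimData ((𝟙 G) ^ ℓ)) (A : Type (u + 1)) [AddCommGroup A]

/-- maps to `LC` as functions -/
noncomputable def vl {U : G.left.Etale} :
    ((Zf G.left).obj U ⟶ LC G.left A) →+ LocallyConstant U.left A := SiteZU.ev.{u + 1} (F := LC G.left A)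

noncomputable def sl {U : G.left.Etale} (s : LocallyConstant U.left A) :
    (Zf G.left).obj U ⟶ LC G.left A := SiteZU.lift.{u + 1} (F := LC G.left A) s

theorem vl_sl {U : G.left.Etale} (s : LocallyConstant U.left A) : vl A (sl A s) = s :=
  SiteZU.ev_lift _

theorem vl_injective {U : G.left.Etale} :
    Function.Injective (vl A (G := G) (U := U)) := SiteZU.ev_injective

theorem val_LCres {U : G.left.Etale} (a : (Zf G.left).obj U ⟶ LC G.left A) (y : YU L U) :
    val L A (a ≫ LCres (pi L) A) y = vl A a (Big.bcFst (pi L) U y) := by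
  have h1 : val L A (a ≫ LCres (pi L) A) = LocallyConstant.comap (cmap (Big.bcFst (pi L) U)) (vl A a) := by
    exact SiteZU.ev_comp (F := LC G.left A) a (LCres (pi L) A)
  rw [h1]
  rfl

theorem m_fst_apply (U : G.left.Etale) (t : Tt G ℓ) (y : YU L U) :
    Big.bcFst (pi L) U (m L U t y) = Big.bcFst (pi L) U y :=
  congrArg (fun f => f y) (m_fst L U t)

theorem LCres_dl (t : Tt G ℓ) : LCres (pi L) A ≫ dl L A t = 0 := by
  refine EpiLoc.eq_zero_of_local _ fun U _ a x => ⟨U, 𝟙 U, x, rfl, ?_⟩
  have h1 : (a ≫ LCres (pi L) A) ≫ dl L A t = 0 := by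
    rw [comp_dl_eq_zero_iff]
    intro y
    rw [val_LCres, val_LCres, m_fst_apply]
  rw [← Category.assoc a, h1, comp_zero]

variable [Fact ℓ.Prime] {κ : Type*} [DecidableEq κ] [Fintype κ] (b : Module.Basis κ ℤ_[ℓ] (Tt G ℓ))

/-- the comparison map -/
noncomputable def kap : LC G.left A ⟶ FS (de L A b) Finset.univ :=
  lift (de L A b) Finset.univ (LCres (pi L) A) fun j _ => LCres_dl L A (b j)

theorem kap_ι : kap L A b ≫ FSι (de L A b) Finset.univ = LCres (pi L) A := lift_ι _ _ _ _

variable (hg : Good G ℓ) [LocallyOfFiniteType G.hom] [IsAffineHom ((𝟙 G) ^ ℓ).left]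

include hg in
theorem surjective_φ : Surjective ((𝟙 G) ^ ℓ).left := by
  have h1 := hg.surj 1
  rw [it_succ, it_zero, Category.comp_id] at h1
  exact h1

include hg in
theorem surjective_fst (U : G.left.Etale) : Function.Surjective (Big.bcFst (pi L) U) := by
  have := surjective_φ hg
  have h2 : Surjective (pi L) := surjective_pr L 0
  have h3 : Surjective (Big.bcFst (pi L) U) :=
    MorphismProperty.of_isPullback (Big.isPullback_bc (pi L) U).flip h2
  exact h3.surj

include hg in
theorem mono_kap : Mono (kap L A b) := by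
  refine Preadditive.mono_of_cancel_zero _ fun {Q} q hq => ?_
  have h0 : q ≫ LCres (pi L) A = 0 := by
    rw [← kap_ι L A b, ← Category.assoc, hq, zero_comp]
  refine EpiLoc.eq_zero_of_local _ fun U _ a x => ⟨U, 𝟙 U, x, rfl, ?_⟩
  have h1 : a ≫ q = 0 := by
    apply vl_injective A
    rw [map_zero]
    apply LocallyConstant.ext
    intro u
    obtain ⟨y, rfl⟩ := surjective_fst L hg U u
    rw [← val_LCres, Category.assoc, h0, comp_zero, map_zero]
    rfl
  rw [h1, comp_zero]

include hg in
theorem epi_kap : Epi (kap L A b) := by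
  have hsurj := surjective_φ hg
  refine EpiLoc.epi_of_local _ fun U hU a₀ x => ?_
  have hUc : CompactSpace U.left := inferInstance
  let f := val L A (a₀ ≫ FSι (de L A b) Finset.univ)
  have hfS : ∀ j y, f (m L U (b j) y) = f y := fun j y =>
    val_inv L A b a₀ j (Finset.mem_univ j) y
  obtain ⟨n, f', hf'⟩ := exists_level L U f
  have hff : ∀ z, f z = f' (pU L U n z) := fun z => (LocallyConstant.congr_fun hf' z).symm
  have hfn : ∀ t y, f (m L U ((ℓ ^ n) • t) y) = f y := by
    intro t y
    rw [hff, hff]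
    exact congrArg f' (congrArg (fun p => p y) (m_pU_of_cp L U _ n (cp_nsmul t n)))
  let Nm : AddSubmonoid (Tt G ℓ) :=
    { carrier := {t | ∀ y, f (m L U t y) = f y}
      zero_mem' := fun y => by rw [m_apply_zero]
      add_mem' := fun {t t'} h h' y => by rw [← m_apply_add, h, h'] }
  have hall : ∀ t y, f (m L U t y) = f y := fun t =>
    Coord.mem_of_basis b n Nm (fun j y => hfS j y) (fun t y => hfn t y) t
  -- descent to `U`
  have hmon := isMonHom_it (G := G) (ℓ := ℓ) n
  let ψ : G ⟶ G := it ((𝟙 G) ^ ℓ) n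
  have he : Etale ψ.left := hg.etale n
  have hs : Surjective ψ.left := hg.surj n
  obtain ⟨N, i, hi, hN⟩ := hg.ker n
  let f₀ : XU ((𝟙 G) ^ ℓ) U n ⟶ U.left := Big.bcFst ψ.left U
  have hf₀e : Etale f₀ := MorphismProperty.of_isPullback (Big.isPullback_bc ψ.left U).flip he
  have hf₀s : Surjective f₀ := MorphismProperty.of_isPullback (Big.isPullback_bc ψ.left U).flip hs
  have hfib : ∀ x₁ x₂ : XU ((𝟙 G) ^ ℓ) U n, f₀ x₁ = f₀ x₂ → f' x₁ = f' x₂ := by
    intro x₁ x₂ h
    obtain ⟨g, hg'⟩ := (galData ψ i hi).trans U x₁ x₂ h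
    have h2' : ∀ (x : 𝟙_ (Over (Spec (CommRingCat.of k))) ⟶ G), x ≫ ψ = 1 → x ^ (ℓ ^ n) = 1 := by
      intro x h3
      have h4 : ψ = (𝟙 G) ^ (ℓ ^ n) := it_eq n
      rw [h4, MonObj.comp_pow, Category.comp_id] at h3
      exact h3
    have h2 : g.1 ^ (ℓ ^ n) = 1 := h2' g.1 g.2
    obtain ⟨t, ht⟩ := K510.TateMod.exists_component_eq hg.div n g.1 h2
    have ht' : cp t n = g.1 := congrArg Additive.toMul ht
    obtain ⟨y₁, rfl⟩ := surjective_pU L U n x₁
    have h5 : pU L U n (m L U t y₁) = x₂ := by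
      rw [← hg']
      have h6 := congrArg (fun p => p y₁) (m_pU L U t n)
      refine h6.trans ?_
      have h7 : ∀ (a b : 𝟙_ (Over (Spec (CommRingCat.of k))) ⟶ G) (ha : (rt a).left ≫ ψ.left = ψ.left)
          (hb : (rt b).left ≫ ψ.left = ψ.left), a = b →
          tU (rt a).left ψ.left ha U = tU (rt b).left ψ.left hb U := by
        rintro a b ha hb rfl
        rfl
      exact congrArg (fun p => p (pU L U n y₁)) (h7 _ _ (rt_it t n) ((galData ψ i hi).hρ g) ht')
    rw [← h5, ← hff, ← hff, hall]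
  let h₀ : U.left → A := fun u => f' (Function.surjInv hf₀s.surj u)
  have hh₀ : ∀ z, h₀ (f₀ z) = f' z := fun z => hfib _ _ (Function.surjInv_eq hf₀s.surj _)
  have hq : Topology.IsQuotientMap f₀ :=
    (Scheme.Hom.isOpenMap f₀).isQuotientMap f₀.continuous hf₀s.surj
  let h : LocallyConstant U.left A := ⟨h₀, fun S => by
    rw [← hq.isOpen_preimage]
    have h1 : f₀ ⁻¹' (h₀ ⁻¹' S) = f' ⁻¹' S := by
      ext z
      change h₀ (f₀ z) ∈ S ↔ f' z ∈ S
      rw [hh₀]
    rw [h1]
    exact f'.isLocallyConstant S⟩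
  refine ⟨U, 𝟙 U, x, sl A h, rfl, ?_⟩
  rw [← cancel_mono (FSι (de L A b) Finset.univ), Category.assoc, kap_ι, CategoryTheory.Functor.map_id,
    Category.id_comp]
  apply val_injective L A
  apply LocallyConstant.ext
  intro y
  rw [val_LCres, vl_sl]
  have h8 : Big.bcFst (pi L) U y = f₀ (pU L U n y) := (congrArg (fun p => p y) (pU_fst L U n)).symm
  rw [h8]
  refine (hh₀ (pU L U n y)).trans ?_
  exact (hff y).symm

include hg in
theorem isIso_kap : IsIso (kap L A b) := by
  have := mono_kap L A b hg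
  have := epi_kap L A b hg
  exact isIso_of_mono_of_epi _

end K668.Kappa
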