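import Groth.Agent.EtAdic.K833.IsogGal
import Mathlib.Topology.LocallyConstant.Basic

/-!
# Morphisms to a finite kernel over an algebraically closed field are locally constant functions
-/

set_option autoImplicit false
set_option linter.unusedSectionVars false
universe u

open CategoryTheory Limits MonoidalCategory CartesianMonoidalCategory MonObj GrpObj AlgebraicGeometry

namespace K668.KerFun

open K833.IsogGal

variable {K : Type u} [Field K] [IsAlgClosed K] {G H : Over (Spec (CommRingCat.of K))} [GrpObj G]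
  [GrpObj H]

/-- two rational points agreeing on a nonempty scheme are equal -/
theorem eq_of_toUnit_comp [LocallyOfFiniteType G.hom] {T : Over (Spec (CommRingCat.of K))}
    (x : T.left) (g g' : 𝟙_ (Over (Spec (CommRingCat.of K))) ⟶ G)
    (h : toUnit T ≫ g = toUnit T ≫ g') : g = g' := by
  ext1
  refine ext_of_apply_closedPoint_eq G.hom (Over.w g) (Over.w g') ?_
  have h1 : (toUnit T).left x = IsLocalRing.closedPoint K := Subsingleton.elim (α := PrimeSpectrum K) _ _
  rw [← h1]
  exact congrArg (fun f => f.left x) h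

variable (φ : G ⟶ H) [IsMonHom φ] {N : Over (Spec (CommRingCat.of K))} (i : N ⟶ G)
  (hi : AlgGrp.IsKernel i φ) [IsFinite N.hom]

include hi in
/-- **the locally constant function of a morphism to the kernel** -/
theorem exists_R {Z : Over (Spec (CommRingCat.of K))} (ρ : Z ⟶ G) (hρ : ρ ≫ φ = 1) :
    ∃ R : LocallyConstant Z.left (𝟙_ (Over (Spec (CommRingCat.of K))) ⟶ G),
      (∀ z, R z ≫ φ = 1) ∧
      ∀ (z : Z.left) (ζ : Over.mk (Z.left.fromSpecResidueField z ≫ Z.hom) ⟶ Z),
        ζ.left = Z.left.fromSpecResidueField z → ζ ≫ ρ = toUnit _ ≫ R z := by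
  have h0 : ρ ≫ φ = toUnit Z ≫ η[H] := hρ
  let n' : Z ⟶ N := hi.lift ρ (toUnit Z) h0
  have hn' : n' ≫ i = ρ := hi.lift_fst _ _ _
  have hd : DiscreteTopology N.left := discreteTopology (N := N)
  have hcl : ∀ y : N.left, IsClosed {y} := fun y => isClosed_discrete _
  let p : N.left → (𝟙_ (Over (Spec (CommRingCat.of K))) ⟶ N) := fun y =>
    Over.homMk (pointOfClosedPoint N.hom y (hcl y)) (pointOfClosedPoint_comp _ _ _)
  let R : LocallyConstant Z.left (𝟙_ (Over (Spec (CommRingCat.of K))) ⟶ G) :=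
    ⟨fun z => p (n'.left z) ≫ i, fun S => by
      have h1 : (fun z => p (n'.left z) ≫ i) ⁻¹' S = n'.left ⁻¹' ((fun y => p y ≫ i) ⁻¹' S) := rfl
      rw [h1]
      exact (isOpen_discrete _).preimage n'.left.continuous⟩
  refine ⟨R, fun z => ?_, fun z ζ hζ => ?_⟩
  · change (p (n'.left z) ≫ i) ≫ φ = 1
    rw [Category.assoc, hi.w, ← Category.assoc, comp_toUnit]
    rfl
  · change ζ ≫ ρ = toUnit _ ≫ p (n'.left z) ≫ i
    rw [← hn', ← Category.assoc, ← Category.assoc]
    congr 1
    ext1
    let y : Spec (CommRingCat.of (Z.left.residueField z)) ⟶ N.left :=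
      Z.left.fromSpecResidueField z ≫ n'.left
    have hy : y (IsLocalRing.closedPoint (Z.left.residueField z)) = n'.left z := by
      exact congrArg n'.left (Scheme.fromSpecResidueField_apply z _)
    have h2 := eq_comp_pointOfClosedPoint N.hom y (by rw [hy]; exact hcl _)
    have h3 : (ζ ≫ n').left = y := by
      rw [Over.comp_left, hζ]
    rw [h3, h2]
    have h4 : (toUnit (Over.mk (Z.left.fromSpecResidueField z ≫ Z.hom))).left =
        Z.left.fromSpecResidueField z ≫ Z.hom := by
      have := Over.w (toUnit (Over.mk (Z.left.fromSpecResidueField z ≫ Z.hom)))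
      exact (Category.comp_id _).symm.trans this
    rw [Over.comp_left, h4]
    have h5 : y ≫ N.hom = Z.left.fromSpecResidueField z ≫ Z.hom := by
      rw [Category.assoc]
      congr 1
      exact Over.w n'
    rw [h5]
    congr 1
    have h6 : ∀ (a b : N.left) (ha : IsClosed {a}) (hb : IsClosed {b}), a = b →
        pointOfClosedPoint N.hom a ha = pointOfClosedPoint N.hom b hb := by
      rintro a _ ha hb rfl
      rfl
    exact h6 _ _ _ _ hy

/-- compatibility with translations -/
theorem R_mul [LocallyOfFiniteType G.hom] {Z : Over (Spec (CommRingCat.of K))} {ρ : Z ⟶ G}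
    {R : LocallyConstant Z.left (𝟙_ (Over (Spec (CommRingCat.of K))) ⟶ G)}
    (hR : ∀ (z : Z.left) (ζ : Over.mk (Z.left.fromSpecResidueField z ≫ Z.hom) ⟶ Z),
        ζ.left = Z.left.fromSpecResidueField z → ζ ≫ ρ = toUnit _ ≫ R z)
    (m : Z ⟶ Z) (g : 𝟙_ (Over (Spec (CommRingCat.of K))) ⟶ G) (h : m ≫ ρ = ρ * (toUnit Z ≫ g))
    (z : Z.left) : R (m.left z) = R z * g := by
  let T := Over.mk (Z.left.fromSpecResidueField z ≫ Z.hom)
  let ζ : T ⟶ Z := Over.homMk (Z.left.fromSpecResidueField z) rfl
  have h1 : ζ ≫ ρ = toUnit _ ≫ R z := hR z ζ rfl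
  let z' := m.left z
  let T' := Over.mk (Z.left.fromSpecResidueField z' ≫ Z.hom)
  let ζ' : T' ⟶ Z := Over.homMk (Z.left.fromSpecResidueField z') rfl
  have h1' : ζ' ≫ ρ = toUnit _ ≫ R z' := hR z' ζ' rfl
  let u : T.left ⟶ T'.left := Spec.map (m.left.residueFieldMap z)
  have hu : u ≫ Z.left.fromSpecResidueField z' = Z.left.fromSpecResidueField z ≫ m.left :=
    Scheme.Hom.SpecMap_residueFieldMap_fromSpecResidueField m.left z
  let v : T ⟶ T' := Over.homMk u (by
    change u ≫ Z.left.fromSpecResidueField z' ≫ Z.hom = Z.left.fromSpecResidueField z ≫ Z.hom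
    rw [← Category.assoc, hu, Category.assoc, Over.w m])
  have hv : v ≫ ζ' = ζ ≫ m := by
    ext1
    exact hu
  have h2 : toUnit T ≫ R z' = toUnit T ≫ (R z * g) := by
    have h3 : v ≫ ζ' ≫ ρ = toUnit T ≫ R z' := by
      rw [h1', ← Category.assoc, comp_toUnit]
    rw [← h3, ← Category.assoc, hv, Category.assoc, h, MonObj.comp_mul, h1, ← Category.assoc,
      comp_toUnit, MonObj.comp_mul]
  exact eq_of_toUnit_comp (T := T) (IsLocalRing.closedPoint (Z.left.residueField z)) _ _ h2

end K668.KerFun
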