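import Groth.Agent.EtpbcA.CdLeray
import Mathlib.Algebra.Homology.DerivedCategory.Ext.Map

/-!
# An edge lemma for the Leray spectral sequence, by dimension shifting

`L ⊣ G` with `L` exact, `A` with enough injectives.  A class `z ∈ Ext^{n+1}(L P, F)` which dies on a
jointly epimorphic family `P_i → P` comes from `Ext^{n+1}(P, G F)` provided
`Ext^{p+1}(P, R^{q+1} G F) = 0` for `(p + 1) + (q + 1) = n + 1`.
-/

set_option autoImplicit false
universe w w' v u v' u' t

open CategoryTheory CategoryTheory.Limits CategoryTheory.Abelian Groth.Agent.EtpbcA.CdShift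
open Groth.Agent.EtpbcA.CdLeray

namespace Groth.Agent.EtAdic.K668.LerayEdge

variable {A : Type u} [Category.{v} A] [Abelian A]
  {B : Type u'} [Category.{v'} B] [Abelian B]
  [HasExt.{w} A] [HasExt.{w'} B]
  {L : B ⥤ A} {G : A ⥤ B} (adj : L ⊣ G) [G.Additive] [L.Additive]
  [PreservesFiniteLimits L] [PreservesFiniteColimits L]

/-- the edge map `Ext^n(P, G F) → Ext^n(L P, F)` -/
noncomputable def edge (P : B) (F : A) (n : ℕ) (w : Ext.{w'} P (G.obj F) n) :
    Ext.{w} (L.obj P) F n :=
  (w.mapExactFunctor L).comp (Ext.mk₀ (adj.counit.app F)) (add_zero n)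

omit [G.Additive] in
lemma edge_mk₀ (P : B) (F : A) (f : P ⟶ G.obj F) :
    edge adj P F 0 (Ext.mk₀ f) = Ext.mk₀ ((adj.homEquiv _ _).symm f) := by
  rw [edge, Ext.mapExactFunctor_mk₀, Ext.mk₀_comp_mk₀, Adjunction.homEquiv_counit]

section

variable {S : ShortComplex A} (hS : S.ShortExact)

/-- the morphism of short complexes `L (G F → G I → im) ⟶ (F → I → Q)` -/
noncomputable def φ [PreservesFiniteLimits G] :
    (ShortComplex.mk (G.map S.f) (Abelian.factorThruImage (G.map S.g)) (w1 G S)).map L ⟶ S where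
  τ₁ := adj.counit.app S.X₁
  τ₂ := adj.counit.app S.X₂
  τ₃ := L.map (Abelian.image.ι (G.map S.g)) ≫ adj.counit.app S.X₃
  comm₁₂ := (adj.counit.naturality S.f).symm
  comm₂₃ := by
    have h := adj.counit.naturality S.g
    change adj.counit.app S.X₂ ≫ S.g = L.map (Abelian.factorThruImage (G.map S.g)) ≫
      L.map (Abelian.image.ι (G.map S.g)) ≫ adj.counit.app S.X₃
    rw [← Functor.map_comp_assoc, Abelian.image.fac]
    exact h.symm

/-- compatibility of the edge maps with connecting homomorphisms -/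
lemma edge_extClass [PreservesFiniteLimits G] (P : B) {n m : ℕ} (h : n + 1 = m)
    (v : Ext.{w'} P (Abelian.image (G.map S.g)) n) :
    edge adj P S.X₁ m (v.comp (shortExact₁ G hS).extClass h) =
      (edge adj P S.X₃ n (v.comp (Ext.mk₀ (Abelian.image.ι (G.map S.g))) (add_zero n))).comp
        hS.extClass h := by
  have hn := ShortComplex.ShortExact.extClass_naturality ((shortExact₁ G hS).map_of_exact L) hS
    (φ adj (S := S))
  have h1 : edge adj P S.X₁ m (v.comp (shortExact₁ G hS).extClass h) =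
      (v.mapExactFunctor L).comp ((((shortExact₁ G hS).map_of_exact L).extClass).comp
        (Ext.mk₀ (adj.counit.app S.X₁)) (add_zero 1)) h := by
    rw [edge, Ext.mapExactFunctor_comp, Ext.mapExactFunctor_extClass]
    exact Ext.comp_assoc_of_third_deg_zero _ _ _ _
  have h2 : (edge adj P S.X₃ n (v.comp (Ext.mk₀ (Abelian.image.ι (G.map S.g))) (add_zero n))).comp
        hS.extClass h = (v.mapExactFunctor L).comp ((Ext.mk₀ (L.map (Abelian.image.ι (G.map S.g)) ≫
          adj.counit.app S.X₃)).comp hS.extClass (zero_add 1)) h := by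
    rw [edge, Ext.mapExactFunctor_comp, Ext.mapExactFunctor_mk₀, Ext.comp_assoc_of_third_deg_zero,
      Ext.mk₀_comp_mk₀, Ext.comp_assoc_of_second_deg_zero]
  exact h1.trans ((congrArg (fun t => (v.mapExactFunctor L).comp t h) hn).trans h2.symm)

end

variable [EnoughInjectives A]

include adj in
/-- **Edge lemma.** -/
theorem exists_edge {ι : Type t} {P : B} {W : ι → B} (e : ∀ i, W i ⟶ P)
    (he : ∀ {T : B} (f : P ⟶ T), (∀ i, e i ≫ f = 0) → f = 0) (n : ℕ) : ∀ (F : A)
    (_ : ∀ p q, (p + 1) + (q + 1) = n + 1 → Subsingleton (Ext.{w'} P ((G.rightDerived (q + 1)).obj F) (p + 1)))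
    (z : Ext.{w} (L.obj P) F (n + 1))
    (_ : ∀ i, (Ext.mk₀ (L.map (e i))).comp z (zero_add _) = 0),
    ∃ x : Ext.{w'} P (G.obj F) (n + 1), edge adj P F (n + 1) x = z := by
  have hG : PreservesFiniteLimits G := by
    have := adj.rightAdjoint_preservesLimits
    infer_instance
  induction n with
  | zero =>
    intro F _ z hz
    obtain ⟨S, hS, hI, rfl⟩ := exists_ses F
    obtain ⟨y, rfl⟩ := Ext.covariant_sequence_exact₁ _ hS z
      ((Ext.subsingleton_of_injective _ S.X₂ 0).elim _ _) (zero_add 1)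
    obtain ⟨f, rfl⟩ := (Ext.mk₀_bijective _ _).2 y
    have hc : (adj.homEquiv _ _) f ≫ cokernel.π (G.map S.g) = 0 := by
      refine he _ fun i => ?_
      have h1 : (Ext.mk₀ (L.map (e i) ≫ f)).comp hS.extClass (zero_add 1) = 0 := by
        rw [← Ext.mk₀_comp_mk₀, Ext.comp_assoc_of_second_deg_zero]
        exact hz i
      obtain ⟨g, hg⟩ := Ext.covariant_sequence_exact₃ _ hS _ (zero_add 1) h1
      obtain ⟨g, rfl⟩ := (Ext.mk₀_bijective _ _).2 g
      rw [Ext.mk₀_comp_mk₀] at hg
      have hg' : g ≫ S.g = L.map (e i) ≫ f := (Ext.mk₀_bijective _ _).1 hg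
      rw [← Category.assoc, ← Adjunction.homEquiv_naturality_left, ← hg',
        Adjunction.homEquiv_naturality_right, Category.assoc, cokernel.condition, comp_zero]
    let s : P ⟶ Abelian.image (G.map S.g) := kernel.lift _ _ hc
    have hs : s ≫ Abelian.image.ι (G.map S.g) = (adj.homEquiv _ _) f := kernel.lift_ι _ _ _
    refine ⟨(Ext.mk₀ s).comp (shortExact₁ G hS).extClass (zero_add 1), ?_⟩
    refine (edge_extClass adj hS P (zero_add 1) (Ext.mk₀ s)).trans ?_
    rw [Ext.mk₀_comp_mk₀, hs, edge_mk₀, Equiv.symm_apply_apply]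
  | succ n ih =>
    intro F h z hz
    obtain ⟨S, hS, hI, rfl⟩ := exists_ses F
    obtain ⟨y, rfl⟩ := Ext.covariant_sequence_exact₁ _ hS z
      ((Ext.subsingleton_of_injective _ S.X₂ (n + 1)).elim _ _) rfl
    obtain ⟨v, rfl⟩ := ih S.X₃ (fun p q hpq => by
      obtain ⟨e'⟩ := nonempty_shiftIso G hS hI q
      exact subsingleton_ext_of_iso P e'.symm (p + 1) (h p (q + 1) (by omega))) y (fun i => by
        have h1 : ((Ext.mk₀ (L.map (e i))).comp y (zero_add _)).comp hS.extClass rfl = 0 :=
          (Ext.comp_assoc (Ext.mk₀ (L.map (e i))) y hS.extClass (zero_add _) rfl (by omega)).trans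
            (hz i)
        obtain ⟨g, hg⟩ := Ext.covariant_sequence_exact₃ _ hS _ rfl h1
        rw [← hg, (Ext.subsingleton_of_injective _ S.X₂ n).elim g 0, Ext.zero_comp])
    obtain ⟨e1⟩ := nonempty_shiftIso_one G hS hI
    have hK : Subsingleton (Ext.{w'} P (cokernel (G.map S.g)) (n + 1)) :=
      subsingleton_ext_of_iso P e1.symm (n + 1) (h n 0 rfl)
    obtain ⟨v', hv'⟩ := Ext.covariant_sequence_exact₂ P (shortExact₂ G S) v (hK.elim _ _)
    refine ⟨v'.comp (shortExact₁ G hS).extClass rfl, ?_⟩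
    refine (edge_extClass adj hS P rfl v').trans ?_
    have hv'' : v'.comp (Ext.mk₀ (Abelian.image.ι (G.map S.g))) (add_zero _) = v := hv'
    rw [hv'']

end Groth.Agent.EtAdic.K668.LerayEdge
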