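import Groth.Agent.Lefpen.H510.TwoPoint

/-!
# The section `1` of the constant sheaf `ℤ` on the small étale site

`ew W : ℤ[W] ⟶ ℤ`, its compatibility with pullbacks, and comparison of `Ext^n(ℤ[X ×_Y V], F)` with the
restriction of classes of `H^n(X, F)`.
-/

set_option autoImplicit false
universe u
open CategoryTheory CategoryTheory.Limits AlgebraicGeometry Opposite Abelian
open scoped Groth.Agent.Etcore.EtInst
open Groth.Agent.Etcore.EtInst

namespace K668.OneSec

open Groth.Agent.Etcore.PullCoh hiding toTop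
open Groth.Agent.Etcore.HQ Groth.Agent.Etcore.HpullCalc
  Groth.Agent.Etcore Groth.Agent.CurvesA Groth.Agent.Lefpen.H510.ZClass
  Groth.Agent.Lefpen.H510.TwoPoint
open Groth.Agent.EtpbcA.CdDiesEt (Zf zPullInv zPullHom zPullIso ev_zPullInv_comp zPull_inv_hom
  zPull_hom_inv)

attribute [local instance] pfl

variable {X : Scheme.{u}}

/-- a section which is locally zero is zero -/
theorem sect_eq_zero (F : EtCoh.Ab X) {V : X.Etale} {S : Sieve V}
    (hS : S ∈ X.smallEtaleTopology V) (s : EtCoh.sect F V)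
    (h : ∀ (W : X.Etale) (g : W ⟶ V), S g → F.obj.map g.op s = 0) : s = 0 := by
  have h1 := ((isSheaf_iff_isSheaf_of_type _ _).1 ((sheafCompose X.smallEtaleTopology
    (CategoryTheory.forget AddCommGrpCat.{u + 1})).obj F).property).isSeparated S hS
  exact h1.ext fun W g hg => (h W g hg).trans (map_zero (F.obj.map g.op).hom).symm

/-- the section `1` over the final object -/
noncomputable def oneTop (X : Scheme.{u}) : EtCoh.sect (EtCoh.const X ℤ) (EtCoh.top X) :=
  H0 X _ (Ext.mk₀ (𝟙 (EtCoh.const X ℤ)))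

/-- the section `1` -/
noncomputable def one (W : X.Etale) : EtCoh.sect (EtCoh.const X ℤ) W :=
  (EtCoh.const X ℤ).obj.map (toTop W).op (oneTop X)

theorem map_one {V W : X.Etale} (g : W ⟶ V) : (EtCoh.const X ℤ).obj.map g.op (one V) = one W := by
  rw [one, one, ← comp_toTop g, op_comp, Functor.map_comp]
  rfl

/-- `ℤ[W] ⟶ ℤ` -/
noncomputable def ew (W : X.Etale) : (Zf X).obj W ⟶ EtCoh.const X ℤ :=
  SiteZU.lift.{u + 1} (F := EtCoh.const X ℤ) (one W)

theorem ev_ew (W : X.Etale) : SiteZU.ev.{u + 1} (ew W) = one W := SiteZU.ev_lift _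

theorem map_ew {V W : X.Etale} (g : W ⟶ V) : (Zf X).map g ≫ ew V = ew W := by
  rw [ew, SiteZU.map_comp_lift.{u + 1}, map_one, ew]

theorem oneTop_map {F : EtCoh.Ab X} (f : EtCoh.const X ℤ ⟶ F) :
    f.hom.app (op (EtCoh.top X)) (oneTop X) = H0 X F (Ext.mk₀ f) := by
  have h := H0_map f (Ext.mk₀ (𝟙 (EtCoh.const X ℤ)))
  rw [HHmap_apply, Ext.mk₀_comp_mk₀, Category.id_comp] at h
  exact h.symm

/-- the maps `ℤ[V_i] ⟶ ℤ` attached to a covering sieve are jointly epimorphic -/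
theorem eq_zero_of_cover {F : EtCoh.Ab X} (f : EtCoh.const X ℤ ⟶ F)
    {S : Sieve (EtCoh.top X)} (hS : S ∈ X.smallEtaleTopology (EtCoh.top X))
    (h : ∀ (W : X.Etale) (g : W ⟶ EtCoh.top X), S g → ew W ≫ f = 0) : f = 0 := by
  have h1 : f.hom.app (op (EtCoh.top X)) (oneTop X) = 0 := by
    refine sect_eq_zero F hS _ fun W g hg => ?_
    have h3 := congrArg (fun t => SiteZU.ev.{u + 1} t) (h W g hg)
    have h4 : SiteZU.ev.{u + 1} (ew W ≫ f) = f.hom.app (op W) (one W) := by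
      rw [SiteZU.ev_comp, ev_ew]
    have h5 : F.obj.map g.op (f.hom.app (op (EtCoh.top X)) (oneTop X)) =
        f.hom.app (op W) (one W) := by
      have h6 := ConcreteCategory.congr_hom (f.hom.naturality g.op) (oneTop X)
      refine h6.symm.trans ?_
      have h7 : g = toTop W := (EtCore.topIsTerminal X).hom_ext _ _
      rw [h7]
      rfl
    rw [h5, ← h4, h3]
    rfl
  have h2 : (Ext.mk₀ f : HH X F 0) = Ext.mk₀ 0 := by
    apply (H0 X F).injective
    rw [← oneTop_map, h1, Ext.mk₀_zero, map_zero]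
  exact (Ext.mk₀_bijective _ _).1 h2

/-- **compatibility with `az`** -/
theorem az_ew {Z : Scheme.{u}} (q : Z ⟶ X) {W : X.Etale} (r : Z ⟶ W.left) (hr : r ≫ W.hom = q) :
    az q r hr ≫ (EtCoh.pull q).map (ew W) = (EtCore.pullConst q ℤ).inv := by
  have h1 : (Ext.mk₀ (az q r hr ≫ (EtCoh.pull q).map (ew W)) : HH Z _ 0) =
      Ext.mk₀ (EtCore.pullConst q ℤ).inv := by
    have h2 : (Ext.mk₀ (az q r hr ≫ (EtCoh.pull q).map (ew W)) : HH Z _ 0) =
        map (ew W) q 0 (sec ((Zf X).obj W) q r hr (SiteZU.univ.{u + 1} W)) := by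
      rw [← mk₀_az, map_apply, HHmap_apply, Ext.mk₀_comp_mk₀]
    have h3 : (ew W).hom.app (op W) (SiteZU.univ.{u + 1} W) = one W := ev_ew W
    rw [h2, map_sec, h3, one, sec_res (EtCoh.const X ℤ) q r hr (toTop W) q (Category.comp_id _) hr]
    have h4 : (Ext.mk₀ (EtCore.pullConst q ℤ).inv : HH Z _ 0) =
        hp q (EtCoh.const X ℤ) 0 (Ext.mk₀ (𝟙 _)) := by
      rw [hp_eq_extMap, ExtMap.extMap_mk₀, CategoryTheory.Functor.map_id, Category.comp_id]
    rw [h4]
    apply (H0 Z _).injective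
    rw [hp_zero]
    exact (H0_sec (EtCoh.const X ℤ) q (W := EtCoh.top X) q (Category.comp_id q) (oneTop X)).trans
      (unitSec_apply q (EtCoh.const X ℤ) (oneTop X)).symm
  exact (Ext.mk₀_bijective _ _).1 h1

variable {Y : Scheme.{u}} (f : X ⟶ Y)

theorem pullConst_inv_one :
    (EtCore.pullConst f ℤ).inv.hom.app (op ((EtCoh.bc f).obj (EtCoh.top Y)))
      (one ((EtCoh.bc f).obj (EtCoh.top Y))) =
    ((EtCoh.pullPushAdj f).unit.app (EtCoh.const Y ℤ)).hom.app (op (EtCoh.top Y)) (oneTop Y) := by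
  let G := (EtCoh.pull f).obj (EtCoh.const Y ℤ)
  have h1 : (EtCore.pullConst f ℤ).inv.hom.app (op (EtCoh.top X)) (oneTop X) =
      G.obj.map (EtCore.bcTopIso f).inv.op
        (((EtCoh.pullPushAdj f).unit.app (EtCoh.const Y ℤ)).hom.app (op (EtCoh.top Y)) (oneTop Y)) := by
    have h4 : (Ext.mk₀ (EtCore.pullConst f ℤ).inv : HH X _ 0) =
        hp f (EtCoh.const Y ℤ) 0 (Ext.mk₀ (𝟙 _)) := by
      rw [hp_eq_extMap, ExtMap.extMap_mk₀, CategoryTheory.Functor.map_id, Category.comp_id]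
    rw [oneTop_map, h4, hp_zero, unitSec_eq]
    rfl
  have h2 := congrArg (fun t => G.obj.map (EtCore.bcTopIso f).hom.op t) h1
  have h3 := ConcreteCategory.congr_hom
    ((EtCore.pullConst f ℤ).inv.hom.naturality (EtCore.bcTopIso f).hom.op) (oneTop X)
  have h5 : (EtCore.bcTopIso f).hom = toTop ((EtCoh.bc f).obj (EtCoh.top Y)) :=
    (EtCore.topIsTerminal X).hom_ext _ _
  have h6 : G.obj.map (EtCore.bcTopIso f).hom.op (G.obj.map (EtCore.bcTopIso f).inv.op
      (((EtCoh.pullPushAdj f).unit.app (EtCoh.const Y ℤ)).hom.app (op (EtCoh.top Y)) (oneTop Y))) =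
      ((EtCoh.pullPushAdj f).unit.app (EtCoh.const Y ℤ)).hom.app (op (EtCoh.top Y)) (oneTop Y) := by
    have h7 : G.obj.map (EtCore.bcTopIso f).inv.op ≫ G.obj.map (EtCore.bcTopIso f).hom.op = 𝟙 _ := by
      rw [← Functor.map_comp, ← op_comp, Iso.hom_inv_id, op_id, CategoryTheory.Functor.map_id]
    exact ConcreteCategory.congr_hom h7 _
  refine Eq.trans ?_ (h2.trans h6)
  refine Eq.trans ?_ h3
  rw [h5]
  rfl

theorem homEquiv_pullConst_hom_oneTop :
    ((EtCoh.pullPushAdj f).homEquiv _ _ (EtCore.pullConst f ℤ).hom).hom.app (op (EtCoh.top Y))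
      (oneTop Y) = one ((EtCoh.bc f).obj (EtCoh.top Y)) := by
  have h1 := congrArg (fun t => (EtCore.pullConst f ℤ).hom.hom.app
    (op ((EtCoh.bc f).obj (EtCoh.top Y))) t) (pullConst_inv_one f)
  have h2 := congrArg (fun a => a.hom.app (op ((EtCoh.bc f).obj (EtCoh.top Y)))
    (one ((EtCoh.bc f).obj (EtCoh.top Y)))) (EtCore.pullConst f ℤ).inv_hom_id
  rw [Adjunction.homEquiv_unit]
  exact h1.symm.trans h2

/-- compatibility of `ew` with pullbacks -/
theorem zPullInv_ew (V : Y.Etale) :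
    zPullInv f V ≫ (EtCoh.pull f).map (ew V) ≫ (EtCore.pullConst f ℤ).hom =
      ew ((EtCoh.bc f).obj V) := by
  apply SiteZU.ev_injective
  rw [ev_zPullInv_comp, Adjunction.homEquiv_naturality_left, SiteZU.ev_comp, ev_ew, ev_ew]
  let Φ := (EtCoh.pullPushAdj f).homEquiv _ _ (EtCore.pullConst f ℤ).hom
  have h1 := ConcreteCategory.congr_hom (Φ.hom.naturality (toTop V).op) (oneTop Y)
  have h2 := congrArg (fun t => (EtCoh.const X ℤ).obj.map ((EtCoh.bc f).map (toTop V)).op t)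
    (homEquiv_pullConst_hom_oneTop f)
  exact h1.trans (h2.trans (map_one _))

end K668.OneSec
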