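import Groth.Agent.EtAdic.K668.LerayEdge
import Groth.Agent.EtAdic.K668.OneSec
import Groth.Agent.Sga7.H744.Rho

/-!
# The edge lemma on étale cohomology

A class `z ∈ H^{n+1}(P, F)` whose section of `R^{n+1} p_* F` is zero comes from `H^{n+1}(T, p_* F)` if
`H^{a+1}(T, R^{b+1} p_* F) = 0` for `(a + 1) + (b + 1) = n + 1`.
-/

set_option autoImplicit false
universe u
open CategoryTheory CategoryTheory.Limits AlgebraicGeometry Opposite Abelian
open scoped Groth.Agent.Etcore.EtInst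
open Groth.Agent.Etcore.EtInst

namespace K668.LerayH

open Groth.Agent.Etcore.HpullCalc Groth.Agent.Etcore Groth.Agent.CurvesA
open Groth.Agent.Sga4B.RpushSec930 (exists_sieve_of_sec_eq_zero)
open Groth.Agent.EtpbcA.CdDiesEt (Zf zPullInv zPullHom zPullIso ev_zPullInv_comp zPull_inv_hom
  zPull_hom_inv)
open K668.OneSec Groth.Agent.Sga7.H744.Rho Groth.Agent.EtAdic.K668.LerayEdge

attribute [local instance] Groth.Agent.Etcore.HQ.pfl

variable {P T : Scheme.{u}} (p : P ⟶ T) (F : EtCoh.Ab P)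

theorem pull_ew (W : T.Etale) : (EtCoh.pull p).map (ew W) ≫ (EtCore.pullConst p ℤ).hom =
    zPullHom p W ≫ ew ((EtCoh.bc p).obj W) := by
  rw [← zPullInv_ew p W, ← Category.assoc, zPull_hom_inv, Category.id_comp]

theorem eG_eq_edge (n : ℕ) (w : HH T ((EtCoh.push p).obj F) n) :
    eG p F n w = (Ext.mk₀ (EtCore.pullConst p ℤ).inv).comp
      (edge (EtCoh.pullPushAdj p) (EtCoh.const T ℤ) F n w) (zero_add n) := by
  have h1 : eG p F n w = HHmap ((EtCoh.pullPushAdj p).counit.app F) n (hp p _ n w) := rfl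
  rw [h1, HHmap_apply, hp_apply, edge, Ext.comp_assoc_of_third_deg_zero]

theorem exists_eG (n : ℕ) (z : HH P F (n + 1))
    (hz : Groth.Agent.Sga4B.RpushSec930.sec p (n + 1) F (EtCoh.top T)
      ((Ext.mk₀ (ew ((EtCoh.bc p).obj (EtCoh.top T)))).comp z (zero_add _)) = 0)
    (h : ∀ a b, (a + 1) + (b + 1) = n + 1 →
      Subsingleton (HH T ((EtCoh.Rpush p (b + 1)).obj F) (a + 1))) :
    ∃ w : HH T ((EtCoh.push p).obj F) (n + 1), eG p F (n + 1) w = z := by
  let z' : Ext.{u + 1} ((EtCoh.pull p).obj (EtCoh.const T ℤ)) F (n + 1) :=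
    (Ext.mk₀ (EtCore.pullConst p ℤ).hom).comp z (zero_add _)
  obtain ⟨S, hS, H⟩ := exists_sieve_of_sec_eq_zero p (n + 1) F _ hz
  let ι := Σ W : T.Etale, {g : W ⟶ EtCoh.top T // S g}
  obtain ⟨w, hw⟩ := exists_edge (EtCoh.pullPushAdj p) (ι := ι) (P := EtCoh.const T ℤ)
    (W := fun i => (Zf T).obj i.1) (fun i => ew i.1)
    (fun f hf => eq_zero_of_cover f hS fun W g hg => hf ⟨W, g, hg⟩) n F h z' (by
      rintro ⟨W, g, hg⟩
      have h1 := H W g hg
      have h2 : (EtCoh.pull p).map (ew W) ≫ (EtCore.pullConst p ℤ).hom =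
          zPullHom p W ≫ (Zf P).map ((EtCoh.bc p).map g) ≫ ew ((EtCoh.bc p).obj (EtCoh.top T)) := by
        rw [pull_ew, map_ew]
      change (Ext.mk₀ ((EtCoh.pull p).map (ew W))).comp
        ((Ext.mk₀ (EtCore.pullConst p ℤ).hom).comp z (zero_add _)) (zero_add _) = 0
      rw [Ext.mk₀_comp_mk₀_assoc, h2, ← Ext.mk₀_comp_mk₀_assoc, ← Ext.mk₀_comp_mk₀_assoc, h1,
        Ext.comp_zero])
  refine ⟨w, ?_⟩
  rw [eG_eq_edge, hw, Ext.mk₀_comp_mk₀_assoc, Iso.inv_hom_id, Ext.mk₀_id_comp]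

end K668.LerayH
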