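import Groth.Agent.EtAdic.K668.GTower
import Groth.Agent.Sga7.H744.Trace

/-!
# Locally constant functions on `U ×_G lim` come from a finite level

`π = pr 0 : lim ⟶ G`, `U` étale over `G`: `pU L U n : lim_U ⟶ G_{n,U}`.
-/

set_option autoImplicit false
set_option backward.isDefEq.respectTransparency.types false
universe u

open CategoryTheory CategoryTheory.Limits AlgebraicGeometry Opposite

namespace K668.LevelU

open K668.Tower K668.TowerTop Groth.Agent.Etcore.PullbackSys Groth.Agent.EtpbcB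
open Groth.Agent.Sga7.H744.RhoLC Groth.Agent.Sga4B.ConstLC

section

variable {S : Scheme.{u}} {G : Over S} {φ : G ⟶ G} (L : LimData φ) (U : G.left.Etale)

/-- the base change of the limit -/
noncomputable abbrev YU : Scheme.{u} := ((EtCoh.bc (L.pr 0).left).obj U).left

/-- the base change of the `n`-th level -/
noncomputable abbrev XU (φ : G ⟶ G) (U : G.left.Etale) (n : ℕ) : Scheme.{u} :=
  ((EtCoh.bc (it φ n).left).obj U).left

/-- the projection to the `n`-th level -/
noncomputable def pU (n : ℕ) : YU L U ⟶ XU φ U n :=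
  proj (DS.{u} φ) (τ φ) U.hom (coneOf φ L.pt L.pr L.w) (L.pr 0).left (ht L) (op ⟨n⟩)

theorem pU_fst (n : ℕ) : pU L U n ≫ Big.bcFst (it φ n).left U = Big.bcFst (L.pr 0).left U :=
  proj_fst (DS.{u} φ) (τ φ) U.hom (coneOf φ L.pt L.pr L.w) (L.pr 0).left (ht L) (op ⟨n⟩)

theorem pU_hom (n : ℕ) : pU L U n ≫ ((EtCoh.bc (it φ n).left).obj U).hom =
    ((EtCoh.bc (L.pr 0).left).obj U).hom ≫ (L.pr n).left :=
  proj_snd (DS.{u} φ) (τ φ) U.hom (coneOf φ L.pt L.pr L.w) (L.pr 0).left (ht L) (op ⟨n⟩)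

theorem surjective_pU [IsAffineHom φ.left] [Surjective φ.left] (n : ℕ) :
    Function.Surjective (pU L U n) := by
  have h1 := isPullback_proj (DS.{u} φ) (τ φ) U.hom (coneOf φ L.pt L.pr L.w) (L.pr 0).left (ht L)
    (op ⟨n⟩)
  have h2 : Surjective ((coneOf φ L.pt L.pr L.w).π.app (op ⟨n⟩)) := surjective_pr L n
  have h3 : Surjective (pU L U n) := MorphismProperty.of_isPullback h1.flip h2
  exact h3.surj

/-- **finite level** -/
theorem exists_level [IsAffineHom φ.left] [Surjective φ.left] [CompactSpace U.left] {A : Type*}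
    (f : LocallyConstant (YU L U) A) :
    ∃ (n : ℕ) (f' : LocallyConstant (XU φ U n) A), LocallyConstant.comap (cmap (pU L U n)) f' = f := by
  classical
  let D' := sys (DS.{u} φ) (τ φ) (hτ φ) U.hom
  let c' := cone (DS.{u} φ) (τ φ) (hτ φ) U.hom (coneOf φ L.pt L.pr L.w) (L.pr 0).left (ht L)
  have hc' : IsLimit c' := isLimitU L U.hom
  have haff : ∀ {a b : Ix.{u}ᵒᵖ} (h : a ⟶ b), IsAffineHom (D'.map h) := fun h =>
    isAffineHom_mapp U.hom h
  have hcpt : ∀ a, CompactSpace (D'.obj a) := by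
    intro a
    have h1 : IsAffineHom (τ φ a) := it_prop φ @IsAffineHom inferInstance _
    have h2 : IsAffineHom (pullback.fst U.hom (τ φ a)) :=
      MorphismProperty.pullback_fst (P := @IsAffineHom) _ _ h1
    have h3 : QuasiCompact (pullback.fst U.hom (τ φ a)) :=
      quasiCompact_iff_forall_isAffineOpen.mpr fun _ hV => (h2.isAffine_preimage _ hV).isCompact
    exact @QuasiCompact.compactSpace_of_compactSpace _ _ (pullback.fst U.hom (τ φ a)) h3
      ‹CompactSpace U.left›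
  have hY : CompactSpace (YU L U) := Scheme.compactSpace_of_isLimit D' c' hc'
  have hfin : (Set.range f).Finite := f.range_finite
  -- levels for the fibres
  have hlev : ∀ a : A, ∃ (n : ℕ) (V : (XU φ U n).Opens), ∀ y : YU L U, pU L U n y ∈ V ↔ f y = a := by
    intro a
    have hcl : IsClopen (f ⁻¹' {a}) := f.isLocallyConstant.isClopen_fiber a
    obtain ⟨i, V, -, hV⟩ := exists_preimage_eq D' c' hc' ⟨f ⁻¹' {a}, hcl.isOpen⟩
      hcl.isClosed.isCompact
    refine ⟨i.unop.down, V, fun y => ?_⟩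
    have h1 : y ∈ c'.π.app i ⁻¹ᵁ V ↔ f y = a := by rw [hV]; rfl
    exact h1
  choose nn V hV using hlev
  obtain ⟨N, hN⟩ : ∃ N : ℕ, ∀ a ∈ Set.range f, nn a ≤ N := by
    obtain ⟨N, hN⟩ := (hfin.image nn).bddAbove
    exact ⟨N, fun a ha => hN ⟨a, ha, rfl⟩⟩
  have hsurj := surjective_pU L U N
  -- transition maps
  have hVN : ∀ a, ∃ W : (XU φ U N).Opens, a ∈ Set.range f → ∀ y : YU L U, pU L U N y ∈ W ↔ f y = a := by
    intro a
    by_cases ha : a ∈ Set.range f
    · have hle : (⟨nn a⟩ : Ix.{u}) ≤ ⟨N⟩ := hN a ha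
      let t : XU φ U N ⟶ XU φ U (nn a) := D'.map (homOfLE hle).op
      have ht : pU L U N ≫ t = pU L U (nn a) := c'.w (homOfLE hle).op
      refine ⟨t ⁻¹ᵁ V a, fun _ y => ?_⟩
      rw [← hV a y, ← ht]
      rfl
    · exact ⟨⊥, fun h => absurd h ha⟩
  choose W hW using hVN
  let f' : XU φ U N → A := fun x => f (Function.surjInv hsurj x)
  have hf' : ∀ y, f' (pU L U N y) = f y := by
    intro y
    have h1 := (hW (f y) ⟨y, rfl⟩ y).2 rfl
    have h2 : pU L U N (Function.surjInv hsurj (pU L U N y)) = pU L U N y := Function.surjInv_eq hsurj _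
    rw [← h2] at h1
    exact (hW (f y) ⟨y, rfl⟩ _).1 h1
  refine ⟨N, ⟨f', fun T => ?_⟩, LocallyConstant.ext hf'⟩
  have h3 : f' ⁻¹' T = ⋃ a ∈ {a | a ∈ Set.range f ∧ a ∈ T}, (W a : Set (XU φ U N)) := by
    ext x
    obtain ⟨y, rfl⟩ := hsurj x
    simp only [Set.mem_preimage, Set.mem_iUnion, Set.mem_ofPred_eq]
    constructor
    · intro h
      rw [hf'] at h
      exact ⟨f y, ⟨⟨y, rfl⟩, h⟩, (hW (f y) ⟨y, rfl⟩ y).2 rfl⟩
    · rintro ⟨a, ⟨ha, haT⟩, h⟩
      rw [hf', (hW a ha y).1 h]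
      exact haT
  rw [h3]
  exact isOpen_biUnion fun a _ => (W a).isOpen

end

end K668.LevelU
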