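import Groth.Agent.EtAdic.K668.FSheaf
import Groth.Agent.EtAdic.K668.KerFun
import Groth.Agent.EtAdic.K668.Coord

/-!
# Local coordinates on the tower

Locally on `U` étale over `G` there is a locally constant function `r : Y_W → ℤ/ℓ^n` with
`r (y + t) = r y + (s-th coordinate of t)`.
-/

set_option autoImplicit false
set_option linter.unusedSectionVars false
set_option backward.isDefEq.respectTransparency.types false
universe u

open CategoryTheory CategoryTheory.Limits MonoidalCategory CartesianMonoidalCategory MonObj GrpObj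
  AlgebraicGeometry Opposite

namespace K668.LocCoord

open K668.Tower K668.TowerTop K668.GTower K668.LevelU K668.FSheaf K833.IsogGal Groth.Agent.EtpbcB

variable {k : Type u} [Field k] [IsAlgClosed k] {G : Over (Spec (CommRingCat.of k))} [GrpObj G]
  [IsCommMonObj G] {ℓ : ℕ}

/-- conditions on the multiplications by powers of `ℓ` -/
structure Good (G : Over (Spec (CommRingCat.of k))) [GrpObj G] [IsCommMonObj G] (ℓ : ℕ) : Prop where
  etale : ∀ n, Etale (it ((𝟙 G) ^ ℓ) n).left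
  surj : ∀ n, Surjective (it ((𝟙 G) ^ ℓ) n).left
  ker : ∀ n, ∃ (N : Over (Spec (CommRingCat.of k))) (i : N ⟶ G),
    AlgGrp.IsKernel i (it ((𝟙 G) ^ ℓ) n) ∧ IsFinite N.hom
  div : ∀ x : 𝟙_ (Over (Spec (CommRingCat.of k))) ⟶ G,
    ∃ y : 𝟙_ (Over (Spec (CommRingCat.of k))) ⟶ G, y ^ ℓ = x

variable (L : LimData ((𝟙 G) ^ ℓ)) (hg : Good G ℓ) [LocallyOfFiniteType G.hom]

include hg in
theorem exists_r [Fact ℓ.Prime] {κ : Type*} (b : Module.Basis κ ℤ_[ℓ] (Tt G ℓ)) (s : κ) (n : ℕ)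
    (U : G.left.Etale) (x : U.left) :
    ∃ (W : G.left.Etale) (g : W ⟶ U) (w : W.left) (r : LocallyConstant (YU L W) (ZMod (ℓ ^ n))),
      g.left w = x ∧ ∀ t y, r (m L W t y) = r y + PadicInt.toZModPow n (b.repr t s) := by
  have hmon := isMonHom_it (G := G) (ℓ := ℓ) n
  let ψ : G ⟶ G := it ((𝟙 G) ^ ℓ) n
  have he : Etale ψ.left := hg.etale n
  have hs : Surjective ψ.left := hg.surj n
  obtain ⟨N, i, hi, hN⟩ := hg.ker n
  let β₀ : XU ((𝟙 G) ^ ℓ) U n ⟶ G.left := ((EtCoh.bc ψ.left).obj U).hom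
  let f₀ : XU ((𝟙 G) ^ ℓ) U n ⟶ U.left := Big.bcFst ψ.left U
  have hcond : f₀ ≫ U.hom = β₀ ≫ ψ.left := Big.bc_condition ψ.left U
  have hf₀e : Etale f₀ := MorphismProperty.of_isPullback (Big.isPullback_bc ψ.left U).flip he
  have hf₀s : Surjective f₀ := MorphismProperty.of_isPullback (Big.isPullback_bc ψ.left U).flip hs
  have hUe : Etale U.hom := U.prop
  have hWe : Etale (f₀ ≫ U.hom) := inferInstance
  let W : G.left.Etale := MorphismProperty.Over.mk ⊤ (f₀ ≫ U.hom) hWe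
  let g : W ⟶ U := MorphismProperty.Over.homMk f₀ rfl
  obtain ⟨w, hw⟩ := hf₀s.surj x
  -- the two maps to `G`
  let p₁ : YU L W ⟶ W.left := Big.bcFst (pi L) W
  let p₂ : YU L W ⟶ L.pt.left := ((EtCoh.bc (pi L)).obj W).hom
  have hY : p₁ ≫ W.hom = p₂ ≫ pi L := Big.bc_condition (pi L) W
  let Z : Over (Spec (CommRingCat.of k)) := Over.mk (p₂ ≫ L.pt.hom)
  let q : Z ⟶ L.pt := Over.homMk p₂ rfl
  let γ : Z ⟶ G := q ≫ L.pr n
  have hβ' : (p₁ ≫ β₀) ≫ ψ.left = p₂ ≫ pi L :=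
    (Category.assoc _ _ _).trans ((congrArg (p₁ ≫ ·) hcond.symm).trans hY)
  have hβ : (p₁ ≫ β₀) ≫ G.hom = p₂ ≫ L.pt.hom := by
    rw [← Over.w ψ, ← Category.assoc, hβ', Category.assoc, Over.w (L.pr 0)]
  let β : Z ⟶ G := Over.homMk (p₁ ≫ β₀) hβ
  have hβγ : β ≫ ψ = γ ≫ ψ := by
    ext1
    refine hβ'.trans ?_
    have h1 : L.pr n ≫ ψ = L.pr 0 := pr_it_zero L n
    have h2 : γ ≫ ψ = q ≫ L.pr 0 := by rw [← h1, ← Category.assoc]
    rw [h2]
    rfl
  let ρ : Z ⟶ G := β⁻¹ * γ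
  have hρ : ρ ≫ ψ = 1 := by
    rw [MonObj.mul_comp, GrpObj.inv_comp, hβγ, inv_mul_cancel]
  obtain ⟨R, hR1, hR2⟩ := KerFun.exists_R ψ i hi ρ hρ
  -- translations
  have hm : ∀ t : Tt G ℓ, m L W t ≫ p₂ ≫ L.pt.hom = p₂ ≫ L.pt.hom := by
    intro t
    have h1 : m L W t ≫ p₂ = p₂ ≫ tl L t := m_hom L W t
    rw [← Category.assoc, h1, Category.assoc, Over.w (tau L t)]
  let mt : Tt G ℓ → (Z ⟶ Z) := fun t => Over.homMk (m L W t) (hm t)
  have hmβ : ∀ t, mt t ≫ β = β := by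
    intro t
    ext1
    change m L W t ≫ p₁ ≫ β₀ = p₁ ≫ β₀
    have h1 : m L W t ≫ p₁ = p₁ := m_fst L W t
    rw [← Category.assoc, h1]
  have hmq : ∀ t, mt t ≫ q = q ≫ tau L t := by
    intro t
    ext1
    exact m_hom L W t
  have hmγ : ∀ t, mt t ≫ γ = γ * (toUnit Z ≫ cp t n) := by
    intro t
    rw [← Category.assoc, hmq, Category.assoc, tau_pr, MonObj.comp_mul, ← Category.assoc,
      comp_toUnit]
  have hmρ : ∀ t, mt t ≫ ρ = ρ * (toUnit Z ≫ cp t n) := by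
    intro t
    rw [MonObj.comp_mul, GrpObj.comp_inv, hmβ, hmγ, _root_.mul_assoc]
  obtain ⟨c, hc⟩ := Coord.exists_coord hg.div b s n
  refine ⟨W, g, w, R.map c, hw, fun t y => ?_⟩
  have h1 : R (m L W t y) = R y * cp t n := KerFun.R_mul hR2 (mt t) (cp t n) (hmρ t) y
  have h2 : (R y) ^ (ℓ ^ n) = 1 := by
    have h3 := hR1 y
    have h4 : ψ = (𝟙 G) ^ (ℓ ^ n) := it_eq n
    rw [h4, MonObj.comp_pow, Category.comp_id] at h3
    exact h3
  change c (R (m L W t y)) = c (R y) + _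
  rw [h1]
  exact hc _ h2 t

end K668.LocCoord
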