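import Mathlib.Algebra.Group.Subgroup.Basic
import Mathlib.GroupTheory.Coset.Card
import Mathlib.GroupTheory.QuotientGroup.Basic
import Mathlib.Data.Nat.Choose.Basic
import Mathlib.Data.Finset.Card

/-!
# Cohomology of `Z_ℓ^b` by induction over subsets (group level)

`H q S` (`S` a finite set of indices) stands for the `q`-th cohomology of the joint kernel `F_S` of the
commuting operators `δ_i`, `i ∈ S`, on an acyclic object `F` such that `δ_s` is surjective on `F_S`
for `s ∉ S`.  If all `δ_i` act as zero on `H^0(F)` then all `δ_j` act as zero on all `H^q(F_S)`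
and `# H^q(F_S) = (# H^0(F)) ^ (|S| choose q)`.
-/

set_option autoImplicit false
universe u v

namespace Groth.Agent.EtAdic.K668.SubsetInd

/-- the data of the long exact sequences of `0 → F_{S ∪ s} → F_S → F_S → 0` -/
structure Data (ι : Type u) [DecidableEq ι] where
  H : ℕ → Finset ι → Type v
  grp : ∀ q S, AddCommGroup (H q S)
  res : ∀ {S T : Finset ι}, S ⊆ T → ∀ q, H q T →+ H q S
  res_rfl : ∀ (S : Finset ι) (q : ℕ) (x : H q S), res (Finset.Subset.refl S) q x = x
  res_res : ∀ {S T U : Finset ι} (h : S ⊆ T) (h' : T ⊆ U) (q : ℕ) (x : H q U),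
    res h q (res h' q x) = res (h.trans h') q x
  D : ι → ∀ (q : ℕ) (S : Finset ι), H q S →+ H q S
  res_D : ∀ (j : ι) {S T : Finset ι} (h : S ⊆ T) (q : ℕ) (x : H q T),
    res h q (D j q T x) = D j q S (res h q x)
  bd : ∀ (s : ι) (S : Finset ι), s ∉ S → ∀ q, H q S →+ H (q + 1) (insert s S)
  bd_D : ∀ (j s : ι) (S : Finset ι) (h : s ∉ S) (q : ℕ) (x : H q S),
    D j (q + 1) (insert s S) (bd s S h q x) = bd s S h q (D j q S x)
  res_bd : ∀ (s : ι) (S T : Finset ι) (hT : s ∉ T) (hST : S ⊆ T) (q : ℕ) (x : H q T),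
    res (Finset.insert_subset_insert s hST) (q + 1) (bd s T hT q x) =
      bd s S (fun h => hT (hST h)) q (res hST q x)
  exact₁ : ∀ (s : ι) (S : Finset ι) (h : s ∉ S) (q : ℕ) (x : H q S), bd s S h q x = 0 →
    ∃ y, D s q S y = x
  exact₂ : ∀ (s : ι) (S : Finset ι) (h : s ∉ S) (q : ℕ) (x : H (q + 1) (insert s S)),
    res (Finset.subset_insert s S) (q + 1) x = 0 → ∃ y, bd s S h q y = x
  exact₂' : ∀ (s : ι) (S : Finset ι) (h : s ∉ S) (q : ℕ) (x : H q S),
    res (Finset.subset_insert s S) (q + 1) (bd s S h q x) = 0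
  exact₃ : ∀ (s : ι) (S : Finset ι) (_ : s ∉ S) (q : ℕ) (x : H q S), D s q S x = 0 →
    ∃ y, res (Finset.subset_insert s S) q y = x
  inj : ∀ {S T : Finset ι} (h : S ⊆ T) (x : H 0 T), res h 0 x = 0 → x = 0
  acyc : ∀ (q : ℕ) (x : H (q + 1) ∅), x = 0
  triv : ∀ (j : ι) (x : H 0 ∅), D j 0 ∅ x = 0

attribute [instance] Data.grp

variable {ι : Type u} [DecidableEq ι] (K : Data.{u, v} ι)

namespace Data

/-- (I) vanishing above `|S|` -/
lemma vanish (n : ℕ) : ∀ (S : Finset ι) (_ : S.card = n) (q : ℕ) (_ : n < q) (x : K.H q S), x = 0 := by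
  induction n with
  | zero =>
    intro S hS q hq x
    obtain rfl := Finset.card_eq_zero.1 hS
    obtain ⟨q, rfl⟩ : ∃ k, q = k + 1 := ⟨q - 1, by omega⟩
    exact K.acyc q x
  | succ n ih =>
    intro S hS q hq x
    obtain ⟨s, S, hs, rfl, hc⟩ := Finset.card_eq_succ.1 hS
    obtain ⟨q, rfl⟩ : ∃ k, q = k + 1 := ⟨q - 1, by omega⟩
    obtain ⟨y, rfl⟩ := K.exact₂ s S hs q x (ih S hc (q + 1) (by omega) _)
    rw [ih S hc q (by omega) y, map_zero]

/-- (T) `δ_j = 0` in the top degree -/
lemma top (n : ℕ) : ∀ (S : Finset ι) (_ : S.card = n) (j : ι) (x : K.H n S), K.D j n S x = 0 := by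
  induction n with
  | zero =>
    intro S hS j x
    obtain rfl := Finset.card_eq_zero.1 hS
    exact K.triv j x
  | succ n ih =>
    intro S hS j x
    obtain ⟨s, S, hs, rfl, hc⟩ := Finset.card_eq_succ.1 hS
    obtain ⟨y, rfl⟩ := K.exact₂ s S hs n x (K.vanish n S hc (n + 1) (by omega) _)
    rw [K.bd_D, ih S hc, map_zero]

/-- (III) detection on subsets of size `q` -/
def Det (q : ℕ) (S : Finset ι) : Prop :=
  ∀ x : K.H q S, (∀ (T : Finset ι) (h : T ⊆ S), T.card = q → K.res h q x = 0) → x = 0

lemma zero_of_det {q : ℕ} {S : Finset ι} (h : K.Det q S) (j : ι) (x : K.H q S) : K.D j q S x = 0 := by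
  refine h _ fun T hT hc => ?_
  rw [K.res_D, K.top q T hc]

lemma det (n : ℕ) : ∀ (S : Finset ι) (_ : S.card = n) (q : ℕ), K.Det q S := by
  induction n using Nat.strong_induction_on with
  | _ n ih =>
    intro S hS q x hx
    rcases Nat.lt_trichotomy q n with h | h | h
    · obtain ⟨n, rfl⟩ : ∃ k, n = k + 1 := ⟨n - 1, by omega⟩
      cases q with
      | zero => exact K.inj (Finset.empty_subset S) x (hx ∅ _ rfl)
      | succ q =>
        obtain ⟨s, S, hs, rfl, hc⟩ := Finset.card_eq_succ.1 hS
        have hdet : ∀ (S₁ : Finset ι) (h₁ : S₁ ⊆ insert s S), S₁.card < n + 1 →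
            K.res h₁ (q + 1) x = 0 := by
          intro S₁ h₁ hlt
          refine ih S₁.card hlt S₁ rfl (q + 1) _ fun T hT hTc => ?_
          rw [K.res_res]
          exact hx T _ hTc
        obtain ⟨y, rfl⟩ := K.exact₂ s S hs q x (hdet S _ (by omega))
        have hy : y = 0 := by
          refine ih n (by omega) S hc q y fun T hT hTc => ?_
          obtain ⟨t, htS, htT⟩ : ∃ t ∈ S, t ∉ T := by
            by_contra hcon
            push Not at hcon
            have : S ⊆ T := hcon
            have := Finset.card_le_card this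
            omega
          have hT' : T ⊆ S.erase t := fun a ha =>
            Finset.mem_erase.2 ⟨fun e => htT (e ▸ ha), hT ha⟩
          have hcard : (S.erase t).card = n - 1 := by rw [Finset.card_erase_of_mem htS, hc]
          have hn : 0 < n := by
            rw [← hc]
            exact Finset.card_pos.2 ⟨t, htS⟩
          have hst : s ∉ S.erase t := fun h => hs (Finset.mem_of_mem_erase h)
          have h0 := K.res_bd s (S.erase t) S hs (Finset.erase_subset t S) q y
          rw [hdet (insert s (S.erase t)) _ (by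
            rw [Finset.card_insert_of_notMem hst, hcard]; omega)] at h0
          obtain ⟨z, hz⟩ := K.exact₁ s (S.erase t) hst q _ h0.symm
          rw [K.zero_of_det (ih (n - 1) (by omega) _ hcard q)] at hz
          have h2 := K.res_res hT' (Finset.erase_subset t S) q y
          rw [← hz, map_zero] at h2
          exact h2.symm
        rw [hy, map_zero]
    · subst h
      rw [← K.res_rfl S q x]
      exact hx S _ hS
    · exact K.vanish n S hS q h x

/-- (II) the operators act as zero -/
lemma D_eq_zero (q : ℕ) (S : Finset ι) (j : ι) (x : K.H q S) : K.D j q S x = 0 :=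
  K.zero_of_det (K.det S.card S rfl q) j x

end Data

/-- cardinality of the middle term of a short exact sequence -/
lemma card_of_exact {A B C : Type*} [AddCommGroup A] [AddCommGroup B] [AddCommGroup C]
    (f : A →+ B) (g : B →+ C) (hf : Function.Injective f) (hg : Function.Surjective g)
    (h : ∀ x, g x = 0 → ∃ y, f y = x) (h' : ∀ x, g (f x) = 0) :
    Nat.card B = Nat.card A * Nat.card C := by
  have h1 : g.ker = f.range := by
    ext x
    exact ⟨fun hx => h x hx, fun ⟨y, hy⟩ => hy ▸ h' y⟩
  have h2 : Nat.card f.range = Nat.card A :=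
    (Nat.card_congr (AddMonoidHom.ofInjective hf).toEquiv).symm
  have h3 : Nat.card (B ⧸ g.ker) = Nat.card C :=
    Nat.card_congr (QuotientAddGroup.quotientKerEquivOfSurjective g hg).toEquiv
  rw [AddSubgroup.card_eq_card_quotient_mul_card_addSubgroup g.ker, h3, h1, h2, mul_comm]

namespace Data

theorem card_eq (n : ℕ) : ∀ (S : Finset ι) (_ : S.card = n) (q : ℕ),
    Nat.card (K.H q S) = (Nat.card (K.H 0 ∅)) ^ (n.choose q) := by
  induction n with
  | zero =>
    intro S hS q
    obtain rfl := Finset.card_eq_zero.1 hS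
    cases q with
    | zero => simp
    | succ q =>
      have : Subsingleton (K.H (q + 1) ∅) := subsingleton_of_forall_eq 0 (K.acyc q)
      rw [Nat.choose_eq_zero_of_lt (by omega), pow_zero]
      exact Nat.card_unique
  | succ n ih =>
    intro S hS q
    obtain ⟨s, S, hs, rfl, hc⟩ := Finset.card_eq_succ.1 hS
    cases q with
    | zero =>
      rw [Nat.choose_zero_right, ← Nat.choose_zero_right n, ← ih S hc 0]
      refine Nat.card_congr (Equiv.ofBijective (K.res (Finset.subset_insert s S) 0) ⟨?_, ?_⟩)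
      · exact (injective_iff_map_eq_zero _).2 fun x hx => K.inj _ x hx
      · exact fun x => K.exact₃ s S hs 0 x (K.D_eq_zero 0 S s x)
    | succ q =>
      rw [card_of_exact (K.bd s S hs q) (K.res (Finset.subset_insert s S) (q + 1)) ?_ ?_
        (K.exact₂ s S hs q) (K.exact₂' s S hs q), ih S hc q, ih S hc (q + 1), ← pow_add,
        Nat.choose_succ_succ]
      · refine (injective_iff_map_eq_zero _).2 fun x hx => ?_
        obtain ⟨y, rfl⟩ := K.exact₁ s S hs q x hx
        exact K.D_eq_zero q S s y
      · exact fun x => K.exact₃ s S hs (q + 1) x (K.D_eq_zero (q + 1) S s x)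

end Data

end Groth.Agent.EtAdic.K668.SubsetInd
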