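import Groth.Agent.S2151
import Groth.Agent.Etcore.PullbackSys
import Mathlib.CategoryTheory.Functor.OfSequence
import Mathlib.CategoryTheory.Limits.Constructions.Over.Connected

/-!
# The limit of `… → G → G → G` along an affine endomorphism

`f : G ⟶ G` in `Over S` with `f.left` affine; `lim f` is the limit of the tower, `pr f n : lim f ⟶ G` the
projections (`pr_succ : pr f (n + 1) ≫ f = pr f n`), `lift`, `hom_ext` the universal property, and
`isLimitC` the limit cone of underlying schemes.
-/

set_option autoImplicit false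
universe u
open CategoryTheory CategoryTheory.Limits AlgebraicGeometry Opposite

namespace K668.Tower

/-- the index category -/
abbrev Ix := ULift.{u} ℕ

/-- `ULift ℕ → ℕ` -/
def dn : Ix.{u} ⥤ ℕ := Monotone.functor (f := ULift.down) fun _ _ h => h

section iter

variable {C : Type*} [Category* C] {G : C} (f : G ⟶ G)

/-- iterates -/
def it : ℕ → (G ⟶ G)
  | 0 => 𝟙 G
  | n + 1 => f ≫ it n

theorem it_zero : it f 0 = 𝟙 G := rfl

theorem it_succ (n : ℕ) : it f (n + 1) = f ≫ it f n := rfl

theorem it_add (m n : ℕ) : it f (m + n) = it f m ≫ it f n := by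
  induction m with
  | zero => rw [Nat.zero_add, it_zero, Category.id_comp]
  | succ m ih => rw [Nat.succ_add, it_succ, ih, it_succ, Category.assoc]

/-- the tower -/
def D₀ : ℕᵒᵖ ⥤ C := Functor.ofOpSequence (X := fun _ => G) fun _ => f

theorem D₀_obj (n : ℕᵒᵖ) : (D₀ f).obj n = G := rfl

theorem D₀_succ (n : ℕ) : (D₀ f).map (homOfLE (Nat.le_succ n)).op = f :=
  Functor.ofOpSequence_map_homOfLE_succ _ n

theorem D₀_map (n m : ℕ) (h : n ≤ m) : (D₀ f).map (homOfLE h).op = it f (m - n) := by
  induction m, h using Nat.le_induction with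
  | base =>
    rw [Nat.sub_self, it_zero]
    exact (D₀ f).map_id _
  | succ m h ih =>
    have h1 : (homOfLE (h.trans (Nat.le_succ m))).op =
        (homOfLE (Nat.le_succ m)).op ≫ (homOfLE h).op := rfl
    rw [h1, Functor.map_comp, ih, D₀_succ, Nat.succ_sub h, it_succ]
    rfl

/-- the tower, indexed by `(ULift ℕ)ᵒᵖ` -/
def D : Ix.{u}ᵒᵖ ⥤ C := dn.op ⋙ D₀ f

theorem D_map {a b : Ix.{u}ᵒᵖ} (h : a ⟶ b) : (D f).map h = it f (a.unop.down - b.unop.down) :=
  D₀_map f b.unop.down a.unop.down (show b.unop ≤ a.unop from leOfHom h.unop)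

end iter

section lim

variable {S : Scheme.{u}} {G : Over S} (f : G ⟶ G)

theorem it_left (n : ℕ) : (it f n).left = it f.left n := by
  induction n with
  | zero => rfl
  | succ n ih => rw [it_succ, it_succ, Over.comp_left, ih]

/-- a multiplicative property passes to the iterates -/
theorem it_prop (P : MorphismProperty Scheme.{u}) [P.IsMultiplicative] (h : P f.left) (n : ℕ) :
    P (it f n).left := by
  induction n with
  | zero => exact P.id_mem _
  | succ n ih =>
    rw [it_succ, Over.comp_left]
    exact P.comp_mem _ _ h ih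

/-- the tower of schemes -/
abbrev DS : Ix.{u}ᵒᵖ ⥤ Scheme.{u} := D f ⋙ Over.forget S

theorem isAffineHom_DS [IsAffineHom f.left] {a b : Ix.{u}ᵒᵖ} (h : a ⟶ b) :
    IsAffineHom ((DS f).map h) := by
  change IsAffineHom ((D f).map h).left
  rw [D_map]
  exact it_prop f @IsAffineHom inferInstance _

theorem DS_map {a b : Ix.{u}ᵒᵖ} (h : a ⟶ b) :
    (DS f).map h = (it f (a.unop.down - b.unop.down)).left := by
  change ((D f).map h).left = _
  rw [D_map]

theorem DS_map_it {a b : Ix.{u}ᵒᵖ} (h : a ⟶ b) :
    (DS f).map h ≫ (it f b.unop.down).left = (it f a.unop.down).left := by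
  have h1 : b.unop.down ≤ a.unop.down := show b.unop ≤ a.unop from leOfHom h.unop
  rw [DS_map]
  refine (Over.comp_left _ _ _ _ _).symm.trans ?_
  rw [← it_add, Nat.sub_add_cancel h1]

variable [IsAffineHom f.left]

theorem hasLimit : HasLimit (D.{u} f) := by
  have h0 : ∀ (a b : Ix.{u}ᵒᵖ) (h : a ⟶ b), IsAffineHom ((DS f).map h) :=
    fun a b h => isAffineHom_DS f h
  have : IsConnected Ix.{u}ᵒᵖ := IsCofiltered.isConnected _
  have h1 : HasLimit (D.{u} f ⋙ Over.forget S) := Groth.Agent.S2151.hasLimit _
  exact hasLimit_of_created (D.{u} f) (Over.forget S)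

end lim

/-- the cone of schemes attached to compatible projections -/
@[simps]
def coneOf {S : Scheme.{u}} {G : Over S} (f : G ⟶ G) (L : Over S) (pr : ℕ → (L ⟶ G))
    (w : ∀ n, pr (n + 1) ≫ f = pr n) : Cone (DS.{u} f) where
  pt := L.left
  π :=
    { app := fun a => (pr a.unop.down).left
      naturality := fun a b h => by
        have h1 : b.unop.down ≤ a.unop.down := show b.unop ≤ a.unop from leOfHom h.unop
        have h2 : ∀ n k, pr (n + k) ≫ it f n = pr k := by
          intro n
          induction n with
          | zero => intro k; rw [Nat.zero_add, it_zero, Category.comp_id]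
          | succ n ih =>
            intro k
            rw [it_succ, ← Category.assoc, show n + 1 + k = (n + k) + 1 by omega, w, ih]
        refine (Category.id_comp _).trans ?_
        rw [DS_map]
        refine Eq.trans ?_ (Over.comp_left _ _ _ _ _)
        rw [← h2 (a.unop.down - b.unop.down) b.unop.down, Nat.sub_add_cancel h1]
        rfl }

/-- the limit of the tower: projections and universal properties -/
structure LimData {S : Scheme.{u}} {G : Over S} (f : G ⟶ G) where
  pt : Over S
  pr : ℕ → (pt ⟶ G)
  w : ∀ n, pr (n + 1) ≫ f = pr n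
  lift : ∀ {T : Over S} (x : ℕ → (T ⟶ G)), (∀ n, x (n + 1) ≫ f = x n) → (T ⟶ pt)
  fac : ∀ {T : Over S} (x : ℕ → (T ⟶ G)) (hx : ∀ n, x (n + 1) ≫ f = x n) (n : ℕ),
    lift x hx ≫ pr n = x n
  hom_ext : ∀ {T : Over S} (a b : T ⟶ pt), (∀ n, a ≫ pr n = b ≫ pr n) → a = b
  isLimit : IsLimit (coneOf f pt pr w)

attribute [reassoc] LimData.w LimData.fac

section ex

variable {S : Scheme.{u}} {G : Over S} (f : G ⟶ G)

/-- cones over the tower from compatible sequences -/
def coneSeq {C : Type*} [Category* C] {G : C} (f : G ⟶ G) {T : C} (x : ℕ → (T ⟶ G))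
    (hx : ∀ n, x (n + 1) ≫ f = x n) : Cone (D.{u} f) where
  pt := T
  π :=
    { app := fun a => x a.unop.down
      naturality := fun a b h => by
        have h1 : b.unop.down ≤ a.unop.down := show b.unop ≤ a.unop from leOfHom h.unop
        have h2 : ∀ n k, x (n + k) ≫ it f n = x k := by
          intro n
          induction n with
          | zero => intro k; rw [Nat.zero_add, it_zero, Category.comp_id]
          | succ n ih =>
            intro k
            rw [it_succ, ← Category.assoc, show n + 1 + k = (n + k) + 1 by omega, hx, ih]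
        refine (Category.id_comp _).trans ?_
        rw [D_map]
        refine Eq.trans ?_ (congrArg (fun z => z ≫ it f (a.unop.down - b.unop.down)) rfl)
        rw [← h2 (a.unop.down - b.unop.down) b.unop.down]
        congr 2
        omega }

theorem cone_w_succ {c : Cone (D.{u} f)} (n : ℕ) :
    c.π.app (op ⟨n + 1⟩) ≫ f = c.π.app (op ⟨n⟩) := by
  have hle : (⟨n⟩ : Ix.{u}) ≤ ⟨n + 1⟩ := Nat.le_succ n
  have h := c.w (homOfLE hle).op
  rw [D_map] at h
  have h2 : it f (n + 1 - n) = f := by
    rw [Nat.add_sub_cancel_left]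
    exact Category.comp_id _
  exact (congrArg (fun z => c.π.app (op ⟨n + 1⟩) ≫ z) h2).symm.trans h

/-- **Existence of the limit of the tower.** -/
theorem nonempty_limData [IsAffineHom f.left] : Nonempty (LimData f) := by
  have h0 := hasLimit f
  have hcon : IsConnected Ix.{u}ᵒᵖ := IsCofiltered.isConnected _
  let c := limit.cone (D.{u} f)
  let hc : IsLimit c := limit.isLimit _
  have hw : ∀ n, c.π.app (op ⟨n + 1⟩) ≫ f = c.π.app (op ⟨n⟩) := cone_w_succ f
  refine ⟨{ pt := c.pt
            pr := fun n => c.π.app (op ⟨n⟩)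
            w := hw
            lift := fun x hx => hc.lift (coneSeq f x hx)
            fac := fun x hx n => hc.fac (coneSeq f x hx) (op ⟨n⟩)
            hom_ext := fun a b h => hc.hom_ext fun j => h j.unop.down
            isLimit := ?_ }⟩
  have h1 : IsLimit ((Over.forget S).mapCone c) := isLimitOfPreserves (Over.forget S) hc
  exact IsLimit.ofIsoLimit h1 (Cone.ext (Iso.refl _) fun j => (Category.id_comp _).symm)

end ex

end K668.Tower
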