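import Groth.Agent.EtAdic.K668.TowerTop
import Groth.Agent.Etcore.LimH
import Groth.Agent.Etcore.HC

/-!
# Classes on the limit of the tower come from a finite level
-/

set_option autoImplicit false
universe u
open CategoryTheory CategoryTheory.Limits AlgebraicGeometry Opposite Abelian
open scoped Groth.Agent.Etcore.EtInst
open Groth.Agent.Etcore.EtInst

namespace K668.TowerCoh

open Tower Groth.Agent.Etcore.HpullCalc Groth.Agent.Etcore Groth.Agent.Etcore.HC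
  Groth.Agent.Etcore.PullCoh

attribute [local instance] Groth.Agent.S0101.result

variable {S : Scheme.{u}} {G : Over S} {f : G ⟶ G} (L : LimData f) (M : Type) [AddCommGroup M]

theorem HC_of_hpVia {X Y Z : Scheme.{u}} (f : X ⟶ Y) (t : Y ⟶ Z) (f₀ : X ⟶ Z) (w : f ≫ t = f₀)
    (p : ℕ) (x : HH Y ((EtCoh.pull t).obj (EtCoh.const Z M)) p) :
    HC M f p (HHmap (EtCore.pullConst t M).hom p x) =
      HHmap (EtCore.pullConst f₀ M).hom p (hpVia f t f₀ w (EtCoh.const Z M) p x) := by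
  change hpl f (EtCore.pullConst f M).hom p _ = _
  rw [hpl_map, pullConst_comp f t f₀ w M, hpl_apply, HHmap_comp, hpVia_apply_th]

theorem exists_level_aux {ι : Type u} [Preorder ι] [IsDirected ι (· ≤ ·)] (Xs : ιᵒᵖ ⥤ Scheme.{u})
    (haff : ∀ ⦃a b : ιᵒᵖ⦄ (h : a ⟶ b), IsAffineHom (Xs.map h))
    (hqc : ∀ a, CompactSpace ↥(Xs.obj a)) (hqs : ∀ a, QuasiSeparatedSpace ↥(Xs.obj a))
    (X₀ : Scheme.{u}) (π : ∀ a, X₀ ⟶ Xs.obj a)
    (w : ∀ ⦃a b : ιᵒᵖ⦄ (h : a ⟶ b), π a ≫ Xs.map h = π b)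
    (hc : IsLimit (LimHBase.mkCone Xs X₀ π w)) {Y : Scheme.{u}} (r : ∀ a : ιᵒᵖ, Xs.obj a ⟶ Y)
    (hr : ∀ ⦃a b : ιᵒᵖ⦄ (h : a ⟶ b), Xs.map h ≫ r b = r a) (r₀ : X₀ ⟶ Y)
    (hr₀ : ∀ a, π a ≫ r a = r₀) (i₀ : ι) (p : ℕ) (ξ : HH X₀ (EtCoh.const X₀ M) p) :
    ∃ (j : ι) (x : HH (Xs.obj (op j)) (EtCoh.const (Xs.obj (op j)) M) p),
      HC M (π (op j)) p x = ξ := by
  obtain ⟨j, -, ξj, hξj⟩ := LimH.exists_of_limit Xs haff hqc hqs X₀ π w hc r hr r₀ hr₀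
    (EtCoh.const Y M) p i₀ (HHmap (EtCore.pullConst r₀ M).inv p ξ)
  refine ⟨j, HHmap (EtCore.pullConst (r (op j)) M).hom p ξj, ?_⟩
  rw [HC_of_hpVia M (π (op j)) (r (op j)) r₀ (hr₀ _), hξj, ← HHmap_comp, Iso.inv_hom_id, HHmap_id]

theorem exists_level [IsAffineHom f.left] [CompactSpace G.left] [QuasiSeparatedSpace G.left]
    (p : ℕ) (ξ : HH L.pt.left (EtCoh.const L.pt.left M) p) :
    ∃ (n : ℕ) (x : HH G.left (EtCoh.const G.left M) p), HC M (L.pr n).left p x = ξ := by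
  obtain ⟨j, x, hx⟩ := exists_level_aux M (DS.{u} f) (fun a b h => isAffineHom_DS f h)
    (fun a => inferInstanceAs (CompactSpace G.left))
    (fun a => inferInstanceAs (QuasiSeparatedSpace G.left)) L.pt.left
    (fun a => (L.pr a.unop.down).left) (fun a b h => (coneOf f L.pt L.pr L.w).w h) L.isLimit
    (fun _ => G.hom) (fun a b h => Over.w ((D f).map h)) L.pt.hom
    (fun a => Over.w (L.pr a.unop.down)) ⟨0⟩ p ξ
  exact ⟨j.down, x, hx⟩

end K668.TowerCoh
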