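import Groth.Agent.EtAdic.K668.Tower
import Groth.Agent.S4758
import Groth.Agent.Sga7.H762.Geom
import Mathlib.AlgebraicGeometry.Morphisms.Integral
import Mathlib.Topology.LocallyConstant.Basic

/-!
# The limit of the tower: integrality, surjectivity, connectedness, locally constant functions
-/

set_option autoImplicit false
set_option backward.isDefEq.respectTransparency.types false
universe u
open CategoryTheory CategoryTheory.Limits AlgebraicGeometry Opposite

namespace K668.TowerTop

open Tower Groth.Agent.Etcore.PullbackSys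

theorem isIntegralHom_of_appTop {X Y : Scheme.{u}} (p : X ⟶ Y) [IsAffine X] [IsAffine Y]
    (h : p.appTop.hom.IsIntegral) : IsIntegralHom p := by
  rw [HasAffineProperty.iff_of_isAffine (P := @IsIntegralHom)]
  exact ⟨inferInstance, h⟩

theorem isIntegral_appTop {X Y : Scheme.{u}} (p : X ⟶ Y) [IsAffine Y] (h : IsIntegralHom p) :
    p.appTop.hom.IsIntegral := by
  rw [HasAffineProperty.iff_of_isAffine (P := @IsIntegralHom)] at h
  exact h.2

theorem isIntegralElem_comp {A B C : CommRingCat.{u}} (φ : A ⟶ B) (ψ : B ⟶ C) (x : B)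
    (h : φ.hom.IsIntegralElem x) : (φ ≫ ψ).hom.IsIntegralElem (ψ.hom x) := by
  obtain ⟨p, hp, hx⟩ := h
  refine ⟨p, hp, ?_⟩
  rw [CommRingCat.hom_comp, ← Polynomial.hom_eval₂, hx, map_zero]

/-- the projections from a limit of affine schemes with integral transition maps are integral -/
theorem isIntegralHom_of_affine {I : Type u} [SmallCategory I] [IsCofiltered I] (D : I ⥤ Scheme.{u})
    (c : Cone D) (hc : IsLimit c) [∀ i, IsAffine (D.obj i)]
    (h : ∀ {i j : I} (f : i ⟶ j), IsIntegralHom (D.map f)) (i : I) : IsIntegralHom (c.π.app i) := by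
  have hpt : IsAffine c.pt := Scheme.isAffine_of_isLimit c hc
  let p : ∀ j, c.pt ⟶ D.obj j := fun j => c.π.app j
  have hp : ∀ {j k : I} (b : k ⟶ j), p j = p k ≫ D.map b := fun b => (c.w b).symm
  change IsIntegralHom (p i)
  refine isIntegralHom_of_appTop _ fun s => ?_
  obtain ⟨j, t, ht⟩ := exists_appTop_π_eq_of_isAffine_of_isLimit D c hc s
  obtain ⟨k, a, b, -⟩ := IsCofilteredOrEmpty.cone_objs i j
  have h3 := isIntegral_appTop (D.map a) (h a) ((D.map b).appTop.hom t)
  have h4 := isIntegralElem_comp _ (p k).appTop _ h3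
  have h5 : (D.map a).appTop ≫ (p k).appTop = (p i).appTop := by
    rw [hp a, Scheme.Hom.comp_appTop]
  have h6 : (p k).appTop.hom ((D.map b).appTop.hom t) = s := by
    have h7 : (p j).appTop = (D.map b).appTop ≫ (p k).appTop := by
      rw [hp b, Scheme.Hom.comp_appTop]
    have h8 : (p j).appTop.hom t = s := ht
    rw [← h8, h7]
    rfl
  rw [← h6, ← h5]
  exact h4

section

variable {S : Scheme.{u}} {G : Over S} {f : G ⟶ G} (L : LimData f)

theorem pr_it (n k : ℕ) : L.pr (n + k) ≫ it f n = L.pr k := by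
  induction n generalizing k with
  | zero => rw [Nat.zero_add, it_zero, Category.comp_id]
  | succ n ih => rw [it_succ, ← Category.assoc, show n + 1 + k = (n + k) + 1 by omega, L.w, ih]

theorem pr_it_zero (n : ℕ) : L.pr n ≫ it f n = L.pr 0 := pr_it L n 0

/-- the structure maps of the tower over its bottom -/
noncomputable abbrev τ (f : G ⟶ G) (a : Ix.{u}ᵒᵖ) : (DS.{u} f).obj a ⟶ G.left := (it f a.unop.down).left

theorem hτ (f : G ⟶ G) ⦃a b : Ix.{u}ᵒᵖ⦄ (h : a ⟶ b) : (DS.{u} f).map h ≫ τ f b = τ f a :=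
  DS_map_it f h

theorem ht (a : Ix.{u}ᵒᵖ) : (coneOf f L.pt L.pr L.w).π.app a ≫ τ f a = (L.pr 0).left := by
  refine (Over.comp_left _ _ _ _ _).symm.trans ?_
  rw [pr_it_zero]

/-- the limit cone of the base change of the tower along `u : X ⟶ G` -/
noncomputable def isLimitU {X : Scheme.{u}} (u : X ⟶ G.left) :
    IsLimit (cone (DS.{u} f) (τ f) (hτ f) u (coneOf f L.pt L.pr L.w) (L.pr 0).left (ht L)) :=
  isLimitCone (DS.{u} f) (τ f) (hτ f) u (coneOf f L.pt L.pr L.w) (L.pr 0).left (ht L) L.isLimit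

theorem isAffineHom_mapp [IsAffineHom f.left] {X : Scheme.{u}} (u : X ⟶ G.left) {a b : Ix.{u}ᵒᵖ}
    (h : a ⟶ b) : IsAffineHom ((sys (DS.{u} f) (τ f) (hτ f) u).map h) := by
  have := isAffineHom_DS f h
  exact MorphismProperty.of_isPullback (isPullback_mapp (DS.{u} f) (τ f) (hτ f) u h).flip this

theorem isIntegralHom_DS [IsIntegralHom f.left] {a b : Ix.{u}ᵒᵖ} (h : a ⟶ b) :
    IsIntegralHom ((DS f).map h) := by
  rw [DS_map]
  exact it_prop f @IsIntegralHom inferInstance _

theorem isIntegralHom_pr_zero [IsIntegralHom f.left] : IsIntegralHom (L.pr 0).left := by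
  rw [IsZariskiLocalAtTarget.iff_of_openCover (P := @IsIntegralHom) G.left.affineCover]
  intro i
  let u := G.left.affineCover.f i
  have haff : ∀ a, IsAffine ((sys (DS.{u} f) (τ f) (hτ f) u).obj a) := by
    intro a
    have h1 : IsIntegralHom (τ f a) := it_prop f @IsIntegralHom inferInstance _
    have h2 : IsIntegralHom (pullback.fst u (τ f a)) :=
      MorphismProperty.pullback_fst (P := @IsIntegralHom) _ _ h1
    have h3 : IsAffineHom (pullback.fst u (τ f a)) := h2.toIsAffineHom
    exact @isAffine_of_isAffineHom _ _ (pullback.fst u (τ f a)) h3 inferInstance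
  have hint : ∀ {a b : Ix.{u}ᵒᵖ} (h : a ⟶ b),
      IsIntegralHom ((sys (DS.{u} f) (τ f) (hτ f) u).map h) := by
    intro a b h
    have := isIntegralHom_DS (f := f) h
    exact MorphismProperty.of_isPullback (isPullback_mapp (DS.{u} f) (τ f) (hτ f) u h).flip this
  have h1 := isIntegralHom_of_affine (sys (DS.{u} f) (τ f) (hτ f) u) _ (isLimitU L u) hint (op ⟨0⟩)
  have h3 : IsIntegralHom (pullback.fst u (τ f (op ⟨0⟩))) :=
    MorphismProperty.pullback_fst (P := @IsIntegralHom) _ _
      (it_prop f @IsIntegralHom inferInstance _)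
  have h2 : pullback.fst u (L.pr 0).left =
      (cone (DS.{u} f) (τ f) (hτ f) u (coneOf f L.pt L.pr L.w) (L.pr 0).left (ht L)).π.app (op ⟨0⟩) ≫
        pullback.fst u (τ f (op ⟨0⟩)) :=
    (proj_fst (DS.{u} f) (τ f) u (coneOf f L.pt L.pr L.w) (L.pr 0).left (ht L) (op ⟨0⟩)).symm
  have h4 : IsIntegralHom (pullback.fst u (L.pr 0).left) := by
    rw [h2]
    exact MorphismProperty.comp_mem _ _ _ h1 h3
  have h5 : pullback.snd (L.pr 0).left u = (pullbackSymmetry _ _).hom ≫ pullback.fst u (L.pr 0).left := by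
    rw [pullbackSymmetry_hom_comp_fst]
  change IsIntegralHom (pullback.snd (L.pr 0).left u)
  rw [h5]
  infer_instance

theorem isIntegralHom_pr [IsIntegralHom f.left] (n : ℕ) : IsIntegralHom (L.pr n).left := by
  have h1 := isIntegralHom_pr_zero L
  have h2 : IsIntegralHom (it f n).left := it_prop f @IsIntegralHom inferInstance _
  have h3 : IsIntegralHom ((L.pr n).left ≫ (it f n).left) := by
    rw [← Over.comp_left, pr_it_zero]
    exact h1
  exact IsIntegralHom.of_comp (L.pr n).left (it f n).left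

theorem surjective_pr [IsAffineHom f.left] [Surjective f.left] (n : ℕ) : Surjective (L.pr n).left := by
  have haff : ∀ (a b : Ix.{u}ᵒᵖ) (h : a ⟶ b), IsAffineHom ((DS.{u} f).map h) :=
    fun a b h => isAffineHom_DS f h
  refine (Groth.Agent.S4758.result (DS.{u} f) (coneOf f L.pt L.pr L.w) L.isLimit (op ⟨n⟩)).2 ?_
  intro j φ
  rw [DS_map]
  exact it_prop f @Surjective inferInstance _

theorem connectedSpace_pt [IsAffineHom f.left] [Surjective f.left] [CompactSpace G.left]
    [ConnectedSpace G.left] : ConnectedSpace L.pt.left := by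
  have haff : ∀ {a b : Ix.{u}ᵒᵖ} (h : a ⟶ b), IsAffineHom ((DS.{u} f).map h) :=
    fun h => isAffineHom_DS f h
  have hc : ∀ a : Ix.{u}ᵒᵖ, CompactSpace ((DS.{u} f).obj a) := fun a => inferInstanceAs (CompactSpace G.left)
  exact Groth.Agent.Sga7.H762.Geom.connectedSpace_of_isLimit (DS.{u} f) (coneOf f L.pt L.pr L.w)
    L.isLimit (fun a => (surjective_pr L a.unop.down).surj)
    (fun a => inferInstanceAs (ConnectedSpace G.left))

end

end K668.TowerTop
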