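import Groth.Agent.EtAdic.K668.LerayH
import Groth.Agent.Etcore.HC

/-!
# Classes on a product vanishing on the two axes

`P = X ×_k T`, the direct images `R^j p_* M` along `p : P ⟶ T` are constant, the intermediate cohomology of `T`
vanishes: a class of `H^{n+1}(P, M)` which is zero on `X × u₀` comes from `T`; if it is also zero on a
section of `p` it is zero.
-/

set_option autoImplicit false
universe u
open CategoryTheory CategoryTheory.Limits AlgebraicGeometry Opposite Abelian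
open scoped Groth.Agent.Etcore.EtInst
open Groth.Agent.Etcore.EtInst

namespace K668.TwoFactor

open Groth.Agent.Etcore.HpullCalc Groth.Agent.Etcore Groth.Agent.CurvesA
open Groth.Agent.Etcore.HC Groth.Agent.Lefpen.H510.ZClass Groth.Agent.Lefpen.H510.TwoPoint
open Groth.Agent.Etcore.LimBC0 (mB mB_fst mB_hom)
open Groth.Agent.EtpbcA.CdDiesEt (Zf)
open K668.OneSec Groth.Agent.Sga7.H744.Rho K668.LerayH

attribute [local instance] Groth.Agent.Etcore.HQ.pfl

section sect

variable {P T : Scheme.{u}} (p : P ⟶ T) (F : EtCoh.Ab P) (n : ℕ)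

/-- the section of `R^n p_* F` attached to a class -/
noncomputable def gs : HH P F n →+ EtCoh.sect ((EtCoh.Rpush p n).obj F) (EtCoh.top T) :=
  (Groth.Agent.Sga4B.RpushSec930.sec p n F (EtCoh.top T)).comp
    { toFun := fun z => (Ext.mk₀ (ew ((EtCoh.bc p).obj (EtCoh.top T)))).comp z (zero_add _)
      map_zero' := Ext.comp_zero _ _ _ _ _
      map_add' := fun _ _ => Ext.comp_add _ _ _ _ }

theorem gs_apply (z : HH P F n) : gs p F n z =
    Groth.Agent.Sga4B.RpushSec930.sec p n F (EtCoh.top T)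
      ((Ext.mk₀ (ew ((EtCoh.bc p).obj (EtCoh.top T)))).comp z (zero_add _)) := rfl

theorem zB_ew {Z : Scheme.{u}} (u : Z ⟶ T) (z : HH P F n) :
    zB p F n (V := EtCoh.top T) (z := u) u (Category.comp_id _)
      ((Ext.mk₀ (ew ((EtCoh.bc p).obj (EtCoh.top T)))).comp z (zero_add _)) =
      hp (pullback.fst p u) F n z := by
  have hb : (u : Z ⟶ (EtCoh.top T).left) ≫ (EtCoh.top T).hom = u := Category.comp_id _
  have h0 := az_ew (pullback.fst p u) (W := (EtCoh.bc p).obj (EtCoh.top T))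
    (mB p (V := EtCoh.top T) u hb) (mB_hom p (V := EtCoh.top T) u hb)
  have h := ExtMap.extMap_mk₀_comp (EtCoh.pull (pullback.fst p u))
    (A := EtCoh.const P ℤ) (A' := EtCoh.const (pullback p u) ℤ)
    (EtCore.pullConst (pullback.fst p u) ℤ).inv
    (az (pullback.fst p u) (mB p (V := EtCoh.top T) u hb) (mB_hom p (V := EtCoh.top T) u hb))
    (ew ((EtCoh.bc p).obj (EtCoh.top T))) (𝟙 _)
    ((Category.id_comp _).trans h0.symm) F n z
  rw [Ext.mk₀_id_comp] at h
  exact h

/-- a class with zero section is zero on the geometric fibres -/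
theorem hp_eq_zero_of_gs_eq {Ω : Type u} [Field Ω] [IsSepClosed Ω] (u : Spec (CommRingCat.of Ω) ⟶ T)
    (z z' : HH P F n) (h : gs p F n z = gs p F n z') :
    hp (pullback.fst p u) F n z = hp (pullback.fst p u) F n z' := by
  rw [← zB_ew, ← zB_ew]
  exact zB_eq_of_sec_eq p F n (V := EtCoh.top T) u (Category.comp_id _) _ _ h

end sect

section main

variable {k : Type u} [Field k] [IsSepClosed k] {X T P : Scheme.{u}}
  {q : X ⟶ Spec (CommRingCat.of k)} {t : T ⟶ Spec (CommRingCat.of k)}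
  {y : P ⟶ X} {p : P ⟶ T} (h : IsPullback y p q t) (M : Type) [AddCommGroup M] (n : ℕ)
  (u₀ : Spec (CommRingCat.of k) ⟶ T) (hu₀ : u₀ ≫ t = 𝟙 _)
  (s : X ⟶ P) (hs : s ≫ y = 𝟙 X) (hs' : s ≫ p = q ≫ u₀)

include h hu₀ in
theorem injective_gs :
    Function.Injective (fun a : HH X (EtCoh.const X M) n => gs p _ n (HC M y n a)) := by
  intro a b hab
  have h3 := hp_eq_zero_of_gs_eq p _ n u₀ _ _ hab
  have h5 : IsPullback (pullback.fst p u₀ ≫ y) (pullback.snd p u₀) q (u₀ ≫ t) :=
    (IsPullback.of_hasPullback p u₀).paste_horiz h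
  rw [hu₀] at h5
  have h6 : IsIso (pullback.fst p u₀ ≫ y) := h5.isIso_fst_of_isIso
  have h7 : HC M (pullback.fst p u₀) n (HC M y n a) = HC M (pullback.fst p u₀) n (HC M y n b) :=
    congrArg (HHmap (EtCore.pullConst (pullback.fst p u₀) M).hom n) h3
  rw [← HC_comp, ← HC_comp] at h7
  exact ((bijective_HC_iff M _ n).2 (bijective_hp_of_isIso _ _ n)).1 h7

include h hu₀ hs hs' in
/-- if a class is zero on `X × u₀` its section is zero -/
theorem gs_eq_zero (hsurj : Function.Surjective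
      (fun a : HH X (EtCoh.const X M) n => gs p _ n (HC M y n a)))
    (z : HH P (EtCoh.const P M) n) (hz : HC M s n z = 0) : gs p _ n z = 0 := by
  obtain ⟨a, ha⟩ := hsurj (gs p _ n z)
  have h3 := hp_eq_zero_of_gs_eq p _ n u₀ _ _ ha
  have h4 : HC M (pullback.fst p u₀) n (HC M y n a) = HC M (pullback.fst p u₀) n z :=
    congrArg (HHmap (EtCore.pullConst (pullback.fst p u₀) M).hom n) h3
  let l : X ⟶ pullback p u₀ := pullback.lift s q hs'
  have h5 := congrArg (HC M l n) h4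
  have h6 : l ≫ pullback.fst p u₀ = s := pullback.lift_fst _ _ _
  rw [← HC_comp, ← HC_comp, h6, ← HC_comp, hs, HC_id, h6, hz] at h5
  rw [← ha]
  change gs p _ n (HC M y n a) = 0
  rw [h5, map_zero, map_zero]

include h hu₀ in
theorem surjective_gs [Finite (HH X (EtCoh.const X M) n)] [ConnectedSpace T] (M' : Type)
    [AddCommGroup M'] [Finite M'] (e₁ : Nonempty (M' ≃ HH X (EtCoh.const X M) n))
    (e₂ : Nonempty (EtCoh.const T M' ≅ (EtCoh.Rpush p n).obj (EtCoh.const P M)))
    (hcard : Nat.card (EtCoh.sect (EtCoh.const T M') (EtCoh.top T)) = Nat.card M') :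
    Function.Surjective (fun a : HH X (EtCoh.const X M) n => gs p _ n (HC M y n a)) := by
  obtain ⟨e₁⟩ := e₁
  obtain ⟨e₂⟩ := e₂
  have e3 : EtCoh.sect (EtCoh.const T M') (EtCoh.top T) ≃
      EtCoh.sect ((EtCoh.Rpush p n).obj (EtCoh.const P M)) (EtCoh.top T) :=
    ((sheafToPresheaf _ _ ⋙ (evaluation _ _).obj
      (op (EtCoh.top T))).mapIso e₂).addCommGroupIsoToAddEquiv.toEquiv
  have hc1 : Nat.card (EtCoh.sect ((EtCoh.Rpush p n).obj (EtCoh.const P M)) (EtCoh.top T)) =
      Nat.card M' := by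
    rw [← Nat.card_congr e3, hcard]
  have hc2 : Nat.card (HH X (EtCoh.const X M) n) = Nat.card M' := (Nat.card_congr e₁).symm
  have hf1 : Finite (EtCoh.sect ((EtCoh.Rpush p n).obj (EtCoh.const P M)) (EtCoh.top T)) :=
    Nat.finite_of_card_ne_zero (by rw [hc1]; exact Nat.card_pos.ne')
  exact ((Nat.bijective_iff_injective_and_card _).2 ⟨injective_gs h M n u₀ hu₀,
    hc2.trans hc1.symm⟩).2

/-- `M_T → p_* M_P` -/
noncomputable def ψ (p : P ⟶ T) (M : Type) [AddCommGroup M] :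
    EtCoh.const T M ⟶ (EtCoh.push p).obj (EtCoh.const P M) :=
  (EtCoh.pullPushAdj p).homEquiv _ _ (EtCore.pullConst p M).hom

theorem eG_ψ (w : HH T (EtCoh.const T M) n) : eG p _ n (HHmap (ψ p M) n w) = HC M p n w := by
  have h1 : eG p _ n (HHmap (ψ p M) n w) =
      HHmap ((EtCoh.pullPushAdj p).counit.app (EtCoh.const P M)) n (hp p _ n (HHmap (ψ p M) n w)) :=
    rfl
  rw [h1, hp_map, ← HHmap_comp, HC_apply]
  congr 2
  exact ((EtCoh.pullPushAdj p).homEquiv_counit _ _ _).symm.trans (Equiv.symm_apply_apply _ _)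

theorem isIso_ψ (hu : IsIso ((EtCoh.pullPushAdj p).unit.app (EtCoh.const T M))) :
    IsIso (ψ p M) := by
  rw [ψ, Adjunction.homEquiv_unit]
  infer_instance

include h hu₀ hs hs' in
/-- **A class which is zero on `X × u₀` comes from `T`.** -/
theorem exists_HC_eq
    (hsurj : Function.Surjective
      (fun a : HH X (EtCoh.const X M) (n + 1) => gs p _ (n + 1) (HC M y (n + 1) a)))
    (hvan : ∀ a b, (a + 1) + (b + 1) = n + 1 →
      Subsingleton (HH T ((EtCoh.Rpush p (b + 1)).obj (EtCoh.const P M)) (a + 1)))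
    (hu : IsIso ((EtCoh.pullPushAdj p).unit.app (EtCoh.const T M)))
    (z : HH P (EtCoh.const P M) (n + 1)) (hz : HC M s (n + 1) z = 0) :
    ∃ w : HH T (EtCoh.const T M) (n + 1), HC M p (n + 1) w = z := by
  obtain ⟨w₁, hw₁⟩ := exists_eG p _ n z (gs_eq_zero h M (n + 1) u₀ hu₀ s hs hs' hsurj z hz) hvan
  have := isIso_ψ (p := p) M hu
  obtain ⟨w, rfl⟩ := (HHmap_bijective (ψ p M) (n + 1)).2 w₁
  exact ⟨w, (eG_ψ M (n + 1) w).symm.trans hw₁⟩

include h hu₀ hs hs' in
/-- **A class which is zero on both axes is zero.** -/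
theorem eq_zero
    (hsurj : Function.Surjective
      (fun a : HH X (EtCoh.const X M) (n + 1) => gs p _ (n + 1) (HC M y (n + 1) a)))
    (hvan : ∀ a b, (a + 1) + (b + 1) = n + 1 →
      Subsingleton (HH T ((EtCoh.Rpush p (b + 1)).obj (EtCoh.const P M)) (a + 1)))
    (hu : IsIso ((EtCoh.pullPushAdj p).unit.app (EtCoh.const T M)))
    (σ : T ⟶ P) (hσ : σ ≫ p = 𝟙 T)
    (z : HH P (EtCoh.const P M) (n + 1)) (hz : HC M s (n + 1) z = 0)
    (hz' : HC M σ (n + 1) z = 0) : z = 0 := by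
  obtain ⟨w, rfl⟩ := exists_HC_eq h M n u₀ hu₀ s hs hs' hsurj hvan hu z hz
  rw [HC_HC M σ p (𝟙 T) hσ, HC_id] at hz'
  rw [hz', map_zero]

end main

end K668.TwoFactor
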